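import Cfsg.Agent.H218.SdFin
import Cfsg.Agent.H905.MdN
import Cfsg.Agent.H905.MdO
import Cfsg.Agent.H905.MdL
import Cfsg.Agent.H48.DsChev

/-!
# Self-dual modules in the defining characteristic, dimension `≤ 12` (helper218)

* `sd_dc` : `Core P`, `|ι| ≤ 12`, `P/scalars` of Lie type in characteristic `p = char F` : `SD P`, or `P/scalars` is
  `PSL_{l+1}(K)`, `PSU_N(K)` or `²F₄`.
-/

set_option autoImplicit false
set_option linter.unusedSectionVars false
set_option linter.style.haveILetI false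

namespace Cfsg.Agent.H218.SdDC

open Cfsg Cfsg.Geo Cfsg.Agent.H905.Md Cfsg.Agent.H915.LD Cfsg.Agent.H218.SdFin
open scoped MatrixGroups

universe u

variable {F : Type u} [Field F] [Finite F] {ι : Type} [Fintype ι] [DecidableEq ι] {P : Subgroup (GL ι F)}

theorem nonempty_ι (hC : Core P) : Nonempty ι := by
  by_contra hcon
  rw [not_nonempty_iff] at hcon
  exact absurd (hC.nonabelian) (not_not.2 ⟨⟨fun a b => by
    obtain ⟨a, rfl⟩ := QuotientGroup.mk_surjective a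
    obtain ⟨b, rfl⟩ := QuotientGroup.mk_surjective b
    rw [Subsingleton.elim a b]⟩⟩)

/-- **Self-dual modules in the defining characteristic.** -/
theorem sd_dc (p : ℕ) [hp : Fact p.Prime] [CharP F p] (hC : Core P) (hn : Fintype.card ι ≤ 12)
    (hL : IsLieTypeChar p (Soc P)) :
    SD P ∨
    (∃ (K : Type) (_ : Field K) (_ : Fintype K) (_ : CharP K p) (l : ℕ),
      1 ≤ l ∧ (l = 1 → 4 ≤ Nat.card K) ∧ Nonempty (Soc P ≃* Matrix.ProjectiveSpecialLinearGroup (Fin (l + 1)) K)) ∨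
    (∃ (K : Type) (_ : Field K) (_ : Fintype K) (_ : CharP K p) (N q : ℕ),
      Fintype.card K = q ^ 2 ∧ 3 ≤ N ∧ (N ≤ 5 ∨ 2 * (N / 2) ≤ Fintype.card ι) ∧ ¬ (N = 3 ∧ q = 2) ∧
      Nonempty (Soc P ≃* PSU N K q)) ∨
    (8 ≤ Fintype.card ι ∧ p = 2 ∧ Lie.Iso2F4 (Soc P)) := by
  haveI := hC.simple
  haveI := nonempty_ι hC
  rcases small_dc hC.absIrred.1 hC.perfect hL hn with h | h | h | h | h | h | h | h | h | h | h
  · exact Or.inr (Or.inl h)
  · left
    obtain ⟨K, i1, i2, i3, m, hm, -, h3, ⟨e⟩⟩ := h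
    intro g hg
    exact (psp_both (p := p) hC.absIrred hC.perfect (by omega) (by
      rcases (show 3 ≤ m ∨ m = 2 by omega) with h | h
      · exact Or.inl h
      · exact Or.inr (Or.inl ⟨h, by rw [Nat.card_eq_fintype_card]; exact h3 h⟩)) e hg).2
  · exact Or.inr (Or.inr (Or.inl h))
  · left
    obtain ⟨rfl, h⟩ := h
    obtain ⟨K, i1, i2, m, hm, hK, ⟨e⟩⟩ := h
    intro g hg
    exact (sz_both hC.absIrred hC.perfect hm hK e hg).2
  · left
    obtain ⟨rfl, h⟩ := h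
    obtain ⟨K, i1, i2, m, hm, hK, ⟨e⟩⟩ := h
    intro g hg
    exact (ree_both hC.absIrred hC.perfect hm hK e hg).2
  · left
    obtain ⟨K, i1, i2, i3, m, hm, hmn, hodd, ⟨e⟩⟩ := h
    have h2 : (2 : K) ≠ 0 := by
      intro h0
      haveI : CharP K 2 := CharTwo.of_one_ne_zero_of_two_eq_zero one_ne_zero h0
      have h4 := FiniteField.cast_card_eq_zero K
      have h5 := (CharP.cast_eq_zero_iff K 2 _).1 h4
      exact (Nat.not_even_iff_odd.2 hodd) (even_iff_two_dvd.2 h5)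
    exact sd_PO_odd p hC h2 hm hmn hn e
  · left
    obtain ⟨K, i1, i2, i3, m, hm, hmn, ⟨e⟩⟩ := h
    exact sd_PO_plus p hC hm hmn hn e
  · left
    obtain ⟨K, i1, i2, i3, m, a, b, hm, hmn, hab, ⟨e⟩⟩ := h
    exact sd_PO_minus p hC hab (by omega) hmn hn e
  · left
    obtain ⟨-, K, i1, i2, i3, h3, ⟨e⟩⟩ := h
    exact H48.DsChev.g2_sd p hC h3 e
  · left
    obtain ⟨-, K, i1, i2, i3, q, hq, hK, ⟨e⟩⟩ := h
    exact H48.DsChev.d4_sd p hC hq hK e
  · exact Or.inr (Or.inr (Or.inr h))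

end Cfsg.Agent.H218.SdDC
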