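import Cfsg.Agent.H218.SdAbs
import Cfsg.Agent.H905.MdD

/-!
# Self-dual modules of perfect central extensions in the defining characteristic (helper218)

`R : RGD cs h p T n X` on `Y`, generated by its root groups; `Z ≤ Z(Y)`, `T` commutative modulo `Z`; `w` over `w0`
with `w0 α_i = -α_{σ i}`; `φ : Y → GL(ι, F)` injective with absolutely irreducible image `P`.

* `oppW_of` : `w` is opposite with the diagram automorphism `σ`;
* `Lr X x` : the rank one subgroup of a root; `RJ` : the roots conjugate to simple roots of `J`;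
* `eq_one_of_RJ` : a central element of a rank one subgroup of a root of `RJ J`, `J = Jx`, is trivial;
* `sd_gen` : `SD P` if `T` is generated by elements `t` with `t ∈ L_i`, `i, σ i ∈ J` or `t ∈ L_x`, `x ∈ RJ J`,
  inverted by `w` modulo `Z`, or `t ∈ Z`, `t² = 1`.
-/

set_option autoImplicit false
set_option linter.unusedSectionVars false
set_option linter.style.haveILetI false

namespace Cfsg.Agent.H218.SdLift

open CoxeterSystem Cfsg.Agent.ChevalleyStructure.CoxeterGeom Cfsg.Agent.Tits.Roots Cfsg.Agent.Tits.Core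
  Cfsg.Agent.Tits.Exchange Cfsg.Agent.Nodes.Reps Cfsg.Agent.Nodes.BNOf Cfsg.Agent.Nodes.StabComb
  Cfsg.Agent.Nodes.Bruhat Cfsg.Agent.Nodes.OppDec Cfsg.Agent.Nodes.LeviDec Cfsg.Agent.KFacts.RgdOpp
  Cfsg.Agent.Omega.CR Cfsg.Agent.Omega.FOne.Lift.Sd Cfsg.Agent.H911 Cfsg.Agent.Nodes.RGDLib
  Cfsg.Agent.KFacts.MulOdd.Inst Cfsg.Agent.KFacts.MulOdd.Shrink
open Cfsg Cfsg.Geo Cfsg.Agent.H905.Md Cfsg.Agent.H915.LD Cfsg.Agent.H218.SdAbs
open scoped MatrixGroups Matrix

variable {I W Y : Type*} [Fintype I] [DecidableEq I] [Group W] [Group Y] {M : CoxeterMatrix I}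
  {cs : CoxeterSystem M W} {A : I → I → ℤ} {h : IsCartan M A} {p : ℕ} {T : Subgroup Y} {n : I → Y}
  {X : (I → ℤ) → Subgroup Y}

/-! ### the action of `w0` -/

section W0

variable {σ : I → I} {w0 : W} (hσ : ∀ i, σ (σ i) = i) (hw0 : ∀ i, rep cs h w0 (sr i) = -sr (σ i))
include hσ hw0

theorem rep_w0 (x : I → ℤ) (k : I) : rep cs h w0 x k = -x (σ k) := by
  have h1 : x = ∑ i, x i • sr i := by
    funext k
    simp [sr, Finset.sum_apply, Pi.single_apply]
  conv_lhs => rw [h1]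
  rw [map_sum, Finset.sum_apply, Finset.sum_eq_single (σ k)]
  · rw [map_smul, hw0, hσ, Pi.smul_apply, Pi.neg_apply, sr_self]
    simp
  · intro i _ hi
    rw [map_smul, hw0, Pi.smul_apply, Pi.neg_apply, sr_ne (fun e => hi (by rw [e, hσ]))]
    simp
  · intro h2
    exact absurd (Finset.mem_univ _) h2

theorem w0_inv : w0⁻¹ = w0 := by
  rw [inv_eq_iff_mul_eq_one]
  apply rep_injective cs h
  refine LinearMap.ext fun x => funext fun k => ?_
  rw [rep_mul_apply, rep_w0 hσ hw0, rep_w0 hσ hw0, hσ, neg_neg, map_one, Module.End.one_apply]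

theorem w0_simple (hA : ∀ i j, A (σ i) (σ j) = A i j) (i : I) : w0⁻¹ * (cs.simple i)⁻¹ * w0 = cs.simple (σ i) := by
  rw [cs.inv_simple, w0_inv hσ hw0]
  apply rep_injective cs h
  refine LinearMap.ext fun x => ?_
  rw [rep_mul_apply, rep_mul_apply, rep_simple_eq, rep_simple_eq, map_sub, map_smul, hw0]
  have h1 : rep cs h w0 (rep cs h w0 x) = x := by
    have h2 := rep_inv_apply cs h w0 x
    rwa [w0_inv hσ hw0] at h2
  have h3 : pairing A i (rep cs h w0 x) = -pairing A (σ i) x := by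
    unfold pairing
    rw [← Finset.sum_neg_distrib]
    have e : ∀ k, σ (σ k) = k := hσ
    refine Finset.sum_bij' (fun k _ => σ k) (fun k _ => σ k) (fun k _ => Finset.mem_univ _)
      (fun k _ => Finset.mem_univ _) (fun k _ => e k) (fun k _ => e k) (fun k _ => ?_)
    rw [rep_w0 hσ hw0, ← hA i k]
    ring
  rw [h1, h3]
  simp

theorem nonpos_w0 {x : I → ℤ} (hx : 0 ≤ x) : rep cs h w0 x ≤ 0 := fun k => by
  rw [rep_w0 hσ hw0]
  exact neg_nonpos.2 (hx _)

theorem nonneg_w0 {x : I → ℤ} (hx : x ≤ 0) : 0 ≤ rep cs h w0 x := fun k => by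
  rw [rep_w0 hσ hw0]
  exact neg_nonneg.2 (hx _)

theorem conj_UN' (R : RGD cs h p T n X) {w : Y} (hw : Rp cs R.nsys w0 w) :
    cj w (RGD.Sup X (RGD.Pos cs h)) = UN cs h X := by
  have h1 : ∀ x, rep cs h w0 (rep cs h w0 x) = x := by
    intro x
    have h2 := rep_inv_apply cs h w0 x
    rwa [w0_inv hσ hw0] at h2
  unfold UN
  rw [RGD.cj_Sup]
  apply le_antisymm
  · refine iSup_le fun z => ?_
    rw [R.conj_rp hw z.2.1]
    exact RGD.le_Sup (S := Neg cs h) ⟨z.2.1.act w0, nonpos_w0 hσ hw0 z.2.2⟩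
  · refine RGD.Sup_le fun z hz => ?_
    have h2 : cj w (X (rep cs h w0 z)) = X z := by
      rw [R.conj_rp hw (hz.1.act w0), h1]
    rw [← h2]
    exact le_iSup (fun y : RGD.Pos cs h => cj w (X y.1)) ⟨rep cs h w0 z, hz.1.act w0, nonneg_w0 hσ hw0 hz.2⟩

theorem oppW_of (hA : ∀ i j, A (σ i) (σ j) = A i j) (R : RGD cs h p T n X) {w : Y} (hw : Rp cs R.nsys w0 w) :
    OppW cs h T n X w σ where
  T_le t ht := by
    have h1 := (Subgroup.mem_normalizer_iff.1 (inv_mem hw.mem_normalizer) t).1 ht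
    rwa [inv_inv] at h1
  U_le u hu := by
    rw [← conj_UN' hσ hw0 R hw] at hu
    exact mem_cj.1 hu
  U_ge u hu := by
    rw [← conj_UN' hσ hw0 R hw]
    exact conj_mem_cj.2 hu
  Xi i := by
    have h1 : rep cs h w0⁻¹ (sr i) = -sr (σ i) := by rw [w0_inv hσ hw0, hw0]
    exact (R.conj_rp hw.inv (isRoot_sr cs h i)).trans (by rw [h1])
  ni i := by
    have h2 : Rp cs R.nsys (cs.simple (σ i)) (w⁻¹ * (n i)⁻¹ * w) := by
      have h3 := (hw.inv.mul (rp_simple cs R.nsys i).inv).mul hw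
      rwa [w0_simple hσ hw0 hA i] at h3
    have h4 := (rp_simple cs R.nsys (σ i)).unique h2
    exact ⟨_, h4, by rw [mul_inv_cancel_left]⟩

end W0

/-! ### rank one subgroups -/

/-- the rank one subgroup of a root -/
def Lr (X : (I → ℤ) → Subgroup Y) (x : I → ℤ) : Subgroup Y := X x ⊔ X (-x)

theorem Lr_sr (i : I) : Lr X (sr i) = Lv X i := rfl

theorem Lr_neg (x : I → ℤ) : Lr X (-x) = Lr X x := by
  unfold Lr
  rw [neg_neg, sup_comm]

theorem conj_Lr (R : RGD cs h p T n X) {u : W} {g : Y} (hg : Rp cs R.nsys u g) {x : I → ℤ} (hx : IsRoot cs h x) :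
    cj g (Lr X x) = Lr X (rep cs h u x) := by
  unfold Lr
  rw [cj_sup, R.conj_rp hg hx, R.conj_rp hg hx.neg, map_neg]

theorem T_Lr (R : RGD cs h p T n X) {x : I → ℤ} (hx : IsRoot cs h x) {t : Y} (ht : t ∈ T) {g : Y} (hg : g ∈ Lr X x) :
    t * g * t⁻¹ ∈ Lr X x := by
  have h1 : cj t (Lr X x) = Lr X x := by
    unfold Lr
    rw [cj_sup, R.tor x hx t ht, R.tor _ hx.neg t ht]
  rw [← h1]
  exact conj_mem_cj.2 hg

/-- the roots conjugate to simple roots of `J` -/
def RJ (cs : CoxeterSystem M W) (h : IsCartan M A) (J : Set I) : Set (I → ℤ) := {x | ∃ j ∈ J, ∃ u : W, rep cs h u (sr j) = x}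

theorem isRoot_of_RJ {J : Set I} {x : I → ℤ} (hx : x ∈ RJ cs h J) : IsRoot cs h x := by
  obtain ⟨j, -, u, rfl⟩ := hx
  exact (isRoot_sr cs h j).act u

theorem sr_mem_RJ {J : Set I} {i : I} (hi : i ∈ J) : sr i ∈ RJ cs h J := ⟨i, hi, 1, by rw [map_one]; rfl⟩

theorem RJ_act {J : Set I} {x : I → ℤ} (hx : x ∈ RJ cs h J) (v : W) : rep cs h v x ∈ RJ cs h J := by
  obtain ⟨j, hj, u, rfl⟩ := hx
  exact ⟨j, hj, v * u, rep_mul_apply cs h v u _⟩

theorem RJ_mono {J J' : Set I} (hJ : J ⊆ J') : RJ cs h J ⊆ RJ cs h J' := by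
  rintro x ⟨j, hj, u, rfl⟩
  exact ⟨j, hJ hj, u, rfl⟩

/-- simply laced neighbours are conjugate -/
theorem adj_RJ {J : Set I} {i j : I} (hi : sr i ∈ RJ cs h J) (h1 : A i j = -1) (h2 : A j i = -1) :
    sr j ∈ RJ cs h J := by
  have h3 : rep cs h (cs.simple i * cs.simple j) (sr i) = sr j := by
    have hpair : ∀ a b : I, pairing A a (sr b) = A a b := by
      intro a b
      unfold pairing sr
      rw [Finset.sum_eq_single b]
      · simp
      · intro k _ hk
        simp [hk]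
      · intro hb
        exact absurd (Finset.mem_univ _) hb
    rw [rep_mul_apply, rep_simple_eq cs h j, hpair, h2, map_sub, map_smul, rep_simple_sr, rep_simple_eq cs h i, hpair,
      h1]
    module
  rw [← h3]
  exact RJ_act hi _

section fixed

variable [Finite Y] [Finite W] [Fact p.Prime]
variable {k V : Type*} [Field k] [CharP k p] [AddCommGroup V] [Module k V] [FiniteDimensional k V] [Nontrivial V]
  {ρ : Y →* Module.End k V}

/-- **A central element of the rank one subgroup of a root of `RJ J` acts trivially.** -/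
theorem eq_one_of_RJ (R : RGD cs h p T n X) (hirr : ∀ L : Submodule k V, Ivt ρ (GG cs h T X) L → L = ⊥ ∨ L = ⊤)
    {x : I → ℤ} (hx : x ∈ RJ cs h (Jx cs h X ρ)) {z : Y} (hz : z ∈ Subgroup.center Y) (hzx : z ∈ Lr X x) :
    ρ z = 1 := by
  obtain ⟨j, hj, u, rfl⟩ := hx
  obtain ⟨g, hg⟩ := exists_rp cs R.nsys u
  rw [← conj_Lr R hg (isRoot_sr cs h j), mem_cj] at hzx
  have h1 : g⁻¹ * z * g = z := by
    rw [mul_assoc, ← Subgroup.mem_center_iff.1 hz g, inv_mul_cancel_left]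
  rw [h1] at hzx
  have hfix : ∀ v ∈ D cs h X ρ, ρ z v = v := fun v hv => fix_of_mem_Lv hj hzx hv
  have h2 := hirr (LinearMap.ker (ρ z - 1)) (by
    intro y _ v hv
    rw [LinearMap.mem_ker, LinearMap.sub_apply, Module.End.one_apply, sub_eq_zero] at hv ⊢
    rw [← rho_mul, ← Subgroup.mem_center_iff.1 hz y, rho_mul, hv])
  have h3 : D cs h X ρ ≤ LinearMap.ker (ρ z - 1) := fun v hv => by
    rw [LinearMap.mem_ker, LinearMap.sub_apply, Module.End.one_apply, sub_eq_zero]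
    exact hfix v hv
  have h4 : D cs h X ρ ≠ ⊥ := (simp_fx R ρ hirr).ne
  rcases h2 with h2 | h2
  · rw [h2, le_bot_iff] at h3
    exact absurd h3 h4
  · rw [LinearMap.ker_eq_top, sub_eq_zero] at h2
    exact h2

/-- `T_i` kills `V^U` for `i ∈ J` -/
theorem Zi_of_mem (R : RGD cs h p T n X) (hirr : ∀ L : Submodule k V, Ivt ρ (GG cs h T X) L → L = ⊥ ∨ L = ⊤)
    {i : I} (hi : i ∈ Jx cs h X ρ) : Zi cs h n X ρ i := by
  intro v hv
  have h1 : ρ (n i) v ∈ D cs h X ρ := n_D R hirr hi hv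
  refine sg_fixed ρ (p := p) ?_ fun a ha => X_fix R ρ h1 i ha
  have h2 := R.pgrp i
  obtain ⟨m, hm⟩ := IsPGroup.iff_card.1 h2
  rw [hm]
  refine dvd_pow_self p ?_
  rintro rfl
  rw [pow_zero, Subgroup.card_eq_one] at hm
  exact X_ne_bot R (isRoot_sr cs h i) hm

/-- the root groups of `J = univ` act trivially -/
theorem Jx_ne_univ (R : RGD cs h p T n X) (hirr : ∀ L : Submodule k V, Ivt ρ (GG cs h T X) L → L = ⊥ ∨ L = ⊤)
    (hG : G1 cs h X = ⊤) (hne : ∃ y, ρ y ≠ 1) : Jx cs h X ρ ≠ Set.univ := by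
  intro hJ
  obtain ⟨y, hy⟩ := hne
  have hfix : ∀ g : Y, ∀ v ∈ D cs h X ρ, ρ g v = v := by
    let K : Subgroup Y :=
      { carrier := {g | ∀ v ∈ D cs h X ρ, ρ g v = v}
        one_mem' := fun v _ => rho_one ρ _
        mul_mem' := fun {a b} ha hb v hv => by
          rw [rho_mul, show ρ b v = v from hb v hv, show ρ a v = v from ha v hv]
        inv_mem' := fun {a} ha v hv => by
          conv_lhs => rw [← show ρ a v = v from ha v hv]
          exact rho_inv_rho ρ a v }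
    have h1 : G1 cs h X ≤ K := by
      unfold G1
      refine RGD.Sup_le fun z hz u hu v hv => ?_
      obtain ⟨w, i, rfl⟩ : IsRoot cs h z := hz
      refine X_fix_J R hirr ?_ hu hv
      rw [hJ]
      exact ⟨(isRoot_sr cs h i).act w, fun k hk => absurd (Set.mem_univ k) hk⟩
    intro g v hv
    exact h1 (by rw [hG]; trivial) v hv
  have h2 := hirr (D cs h X ρ) (fun g _ v hv => by rw [hfix g v hv]; exact hv)
  have h4 : D cs h X ρ ≠ ⊥ := (simp_fx R ρ hirr).ne
  have h5 := h2.resolve_left h4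
  apply hy
  refine LinearMap.ext fun v => hfix y v (by rw [h5]; trivial)

/-- **the index of `W_J`** -/
theorem index_le (R : RGD cs h p T n X) (hirr : ∀ L : Submodule k V, Ivt ρ (GG cs h T X) L → L = ⊥ ∨ L = ⊤) :
    (WJ cs (Jx cs h X ρ)).index ≤ Module.finrank k V := by
  classical
  have hF : Fintype (W ⧸ WJ cs (Jx cs h X ρ)) := Fintype.ofFinite _
  have h1 := dim_ge R hirr (fun a : W ⧸ WJ cs (Jx cs h X ρ) => a.out) (fun a a' haa hm => haa (by
    have h2 := QuotientGroup.eq.2 hm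
    rwa [QuotientGroup.out_eq', QuotientGroup.out_eq'] at h2)) (fun b : Empty => b.elim) (fun b : Empty => b.elim)
    (fun b => b.elim)
  have h4 : D cs h X ρ ≠ ⊥ := (simp_fx R ρ hirr).ne
  have h5 : 1 ≤ Module.finrank k (D cs h X ρ) := Submodule.one_le_finrank_iff.2 h4
  rw [Subgroup.index, Nat.card_eq_fintype_card]
  have h6 : Fintype.card (W ⧸ WJ cs (Jx cs h X ρ)) * 1 ≤
      Fintype.card (W ⧸ WJ cs (Jx cs h X ρ)) * Module.finrank k (D cs h X ρ) := Nat.mul_le_mul_left _ h5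
  have h7 : ∑ b : Empty, Module.finrank k (Io cs h T X ρ b.elim) = 0 := by simp
  omega

end fixed

section main

variable [Finite Y] [Finite W] [Fact p.Prime] {F : Type*} [Field F] [CharP F p] {ι : Type} [Fintype ι]
  [DecidableEq ι] {P : Subgroup (GL ι F)}

theorem acRep_injective {φ : Y →* GL ι F} (hφi : Function.Injective φ) {y : Y} (hy : lin (acRep φ) y = 1) : y = 1 := by
  have h1 : acRep φ y = 1 := by
    have h2 : Matrix.toLin' (acRep φ y) = Matrix.toLin' 1 := by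
      rw [Matrix.toLin'_one]
      exact hy
    exact Matrix.toLin'.injective h2
  rw [acRep_apply] at h1
  apply hφi
  rw [map_one]
  apply Units.ext
  ext i j
  have h2 := congrFun (congrFun h1 i) j
  rw [Matrix.map_apply] at h2
  apply (algebraMap F (AlgebraicClosure F)).injective
  rw [h2, Units.val_one]
  by_cases hij : i = j
  · subst hij; simp
  · simp [hij]

/-- a commuting family on the simple module `V^U` acts by scalars -/
theorem exists_chi' {k V : Type*} [Field k] [CharP k p] [IsAlgClosed k] [AddCommGroup V] [Module k V]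
    [FiniteDimensional k V] [Nontrivial V] {ρ : Y →* Module.End k V} (R : RGD cs h p T n X)
    (hirr : ∀ L : Submodule k V, Ivt ρ (GG cs h T X) L → L = ⊥ ∨ L = ⊤)
    (hT : ∀ s ∈ T, ∀ t ∈ T, ∀ v ∈ D cs h X ρ, ρ (s * t) v = ρ (t * s) v) :
    ∃ c ∈ fx ρ (RGD.Sup X (RGD.Pos cs h)), c ≠ 0 ∧ ∃ χ : Y → k, ∀ t ∈ T, ρ t c = χ t • c := by
  have h1 := simp_fx R ρ hirr
  set S := fx ρ (RGD.Sup X (RGD.Pos cs h)) with hS
  obtain ⟨c, hc, hc0⟩ := (Submodule.ne_bot_iff _).1 h1.ne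
  refine ⟨c, hc, hc0, ?_⟩
  have hsc : ∀ t ∈ T, ∃ a : k, ∀ v ∈ S, ρ t v = a • v := by
    intro t ht
    have hne : Nontrivial S := ⟨⟨⟨c, hc⟩, 0, fun e => hc0 (congrArg Subtype.val e)⟩⟩
    obtain ⟨a, ha⟩ := Module.End.exists_eigenvalue ((ρ t).restrict (fun v hv => h1.inv t ht v hv) : Module.End k S)
    obtain ⟨w, hw⟩ := ha.exists_hasEigenvector
    refine ⟨a, ?_⟩
    have h2 : LinearMap.ker (ρ t - a • LinearMap.id) ⊓ S = S := by
      refine (h1.simple _ inf_le_right ?_).resolve_left ?_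
      · intro s hs v hv
        refine ⟨?_, h1.inv s hs v hv.2⟩
        have h3 : ρ t v - a • v = 0 := hv.1
        change ρ t (ρ s v) - a • ρ s v = 0
        rw [← rho_mul, hT t ht s hs v hv.2, rho_mul, sub_eq_zero.1 h3, map_smul, sub_self]
      · intro e
        have h3 : (w : V) ∈ LinearMap.ker (ρ t - a • LinearMap.id) ⊓ S := by
          refine ⟨?_, w.2⟩
          change ρ t (w : V) - a • (w : V) = 0
          have h4 := congrArg Subtype.val (Module.End.mem_eigenspace_iff.1 hw.1)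
          rw [sub_eq_zero]
          exact h4
        rw [e, Submodule.mem_bot] at h3
        exact hw.2 (Subtype.ext h3)
    intro v hv
    rw [← h2] at hv
    exact sub_eq_zero.1 hv.1
  choose! χ hχ using hsc
  exact ⟨χ, fun t ht => hχ t ht c hc⟩

/-- **Self-dual modules of perfect central extensions.** -/
theorem sd_gen (R : RGD cs h p T n X) (hG : G1 cs h X = ⊤) {Z : Subgroup Y} (hZ : Z ≤ Subgroup.center Y)
    {φ : Y →* GL ι F} (hφ : φ.range = P) (hφi : Function.Injective φ)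
    (hP : ActsAbsolutelyIrreducibly (matrixSet P)) [Nonempty ι]
    {σ : I → I} (hσ : ∀ i, σ (σ i) = i) (hA : ∀ i j, A (σ i) (σ j) = A i j)
    {w0 : W} (hw0 : ∀ i, rep cs h w0 (sr i) = -sr (σ i)) {w : Y} (hw : Rp cs R.nsys w0 w)
    {J : Set I} (hJ : Jx cs h X (lin (acRep φ)) = J) (hσJ : ∀ i, i ∉ J → σ i = i)
    (hgen : T ≤ Subgroup.closure {t | t ∈ T ∧ ((∃ i ∈ J, t ∈ Lv X i) ∨
      (∃ x ∈ RJ cs h J, rep cs h w0 x = -x ∧ t ∈ Lr X x ∧ w⁻¹ * t⁻¹ * w * t⁻¹ ∈ Z ∧
        ∀ s ∈ T, s * t * s⁻¹ * t⁻¹ ∈ Z) ∨ (t ∈ Z ∧ t * t = 1))}) :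
    SD P := by
  have hchar : CharP (AlgebraicClosure F) p := charP_of_injective_algebraMap (algebraMap F _).injective p
  have hGG := gg_eq_top (T := T) hG
  have hirr : ∀ L : Submodule (AlgebraicClosure F) (ι → AlgebraicClosure F),
      Ivt (lin (acRep φ)) (GG cs h T X) L → L = ⊥ ∨ L = ⊤ := fun L hL =>
    acRep_irr hφ (H920.span_eq_top hP) hGG L hL
  -- central elements of rank one subgroups
  have hone : ∀ x ∈ RJ cs h J, ∀ z ∈ Z, z ∈ Lr X x → z = 1 := by
    intro x hx z hz hzx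
    refine acRep_injective hφi (eq_one_of_RJ R hirr (x := x) ?_ (hZ hz) hzx)
    rw [hJ]; exact hx
  -- the torus is commutative on `V^U`
  have hD := D_ivt R hirr
  let S0 : Subgroup Y :=
    { carrier := {t | t ∈ T ∧ ∀ s ∈ T, ∀ v ∈ D cs h X (lin (acRep φ)),
        lin (acRep φ) (s * t) v = lin (acRep φ) (t * s) v}
      one_mem' := ⟨one_mem T, fun s _ v _ => by rw [mul_one, one_mul]⟩
      mul_mem' := fun {a b} ha hb => by
        refine ⟨mul_mem ha.1 hb.1, fun s hs v hv => ?_⟩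
        have e1 : s * (a * b) = (s * a) * b := by group
        have e2 : a * b * s = a * (b * s) := by group
        rw [e1, e2, rho_mul (lin (acRep φ)) (s * a), ha.2 s hs _ (hD b hb.1 v hv), rho_mul (lin (acRep φ)) a s,
          rho_mul (lin (acRep φ)) a (b * s), ← hb.2 s hs v hv, rho_mul (lin (acRep φ)) s b]
      inv_mem' := fun {a} ha => by
        refine ⟨inv_mem ha.1, fun s hs v hv => ?_⟩
        have h1 := ha.2 s hs _ (hD a⁻¹ (inv_mem ha.1) v hv)
        have e1 : lin (acRep φ) (s * a) (lin (acRep φ) a⁻¹ v) = lin (acRep φ) s v := by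
          rw [← rho_mul]; congr 2; group
        have e2 : lin (acRep φ) (a * s) (lin (acRep φ) a⁻¹ v) = lin (acRep φ) a (lin (acRep φ) (s * a⁻¹) v) := by
          rw [← rho_mul, ← rho_mul, mul_assoc]
        rw [e1, e2] at h1
        have h2 := congrArg (lin (acRep φ) a⁻¹) h1
        rw [rho_inv_rho, ← rho_mul] at h2
        exact h2.symm }
  have hTS0 : T ≤ S0 := by
    refine hgen.trans ((Subgroup.closure_le _).2 ?_)
    rintro t ⟨ht, h1⟩
    refine ⟨ht, fun s hs v hv => ?_⟩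
    rcases h1 with ⟨i, hi, h1⟩ | ⟨x, hx, -, h1, -, h3⟩ | ⟨h1, -⟩
    · have h4 : ∀ u ∈ D cs h X (lin (acRep φ)), lin (acRep φ) t u = u := fun u hu =>
        fix_of_mem_Lv (by rw [hJ]; exact hi) h1 hu
      rw [rho_mul, rho_mul, h4 v hv, h4 _ (hD s hs v hv)]
    · have h4 := hone x hx _ (h3 s hs) (mul_mem (T_Lr R (isRoot_of_RJ hx) hs h1) (inv_mem h1))
      have h2 : s * t = (s * t * s⁻¹ * t⁻¹) * (t * s) := by group
      rw [h2, h4, one_mul]
    · rw [Subgroup.mem_center_iff.1 (hZ h1) s]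
  obtain ⟨c, hc, hc0, χ, hχ⟩ := exists_chi' R hirr fun s hs t ht v hv => (hTS0 ht).2 s hs v hv
  have hmul : ∀ t ∈ T, ∀ t' ∈ T, χ (t * t') = χ t * χ t' := fun t ht t' ht' => chi_mul R (acRep φ) hirr hc hc0 hχ ht ht'
  have hcj : ∀ t ∈ T, w⁻¹ * t * w ∈ T := fun t ht => conj_inv_mem_T R hw ht
  have h1 : χ 1 = 1 := by
    have h2 := hχ 1 (one_mem T)
    rw [rho_one] at h2
    have h3 : (1 : AlgebraicClosure F) • c = χ 1 • c := by rw [one_smul]; exact h2
    exact (smul_left_injective _ hc0 h3).symm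
  let S : Subgroup Y :=
    { carrier := {t | t ∈ T ∧ χ (w⁻¹ * t⁻¹ * w) = χ t}
      one_mem' := ⟨one_mem T, by rw [inv_one, mul_one, inv_mul_cancel]⟩
      mul_mem' := fun {a b} ha hb => by
        refine ⟨mul_mem ha.1 hb.1, ?_⟩
        have e : w⁻¹ * (a * b)⁻¹ * w = (w⁻¹ * b⁻¹ * w) * (w⁻¹ * a⁻¹ * w) := by group
        rw [e, hmul _ (hcj _ (inv_mem hb.1)) _ (hcj _ (inv_mem ha.1)), ha.2, hb.2, hmul _ ha.1 _ hb.1, mul_comm]
      inv_mem' := fun {a} ha => by
        refine ⟨inv_mem ha.1, ?_⟩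
        have e1 : χ (w⁻¹ * a⁻¹⁻¹ * w) * χ (w⁻¹ * a⁻¹ * w) = 1 := by
          rw [← hmul _ (hcj _ (inv_mem (inv_mem ha.1))) _ (hcj _ (inv_mem ha.1))]
          rw [show w⁻¹ * a⁻¹⁻¹ * w * (w⁻¹ * a⁻¹ * w) = 1 by group, h1]
        have e2 : χ a⁻¹ * χ a = 1 := by
          rw [← hmul _ (inv_mem ha.1) _ ha.1, inv_mul_cancel, h1]
        rw [ha.2] at e1
        have h3 : χ a ≠ 0 := fun h0 => by rw [h0, mul_zero] at e2; exact zero_ne_one e2
        exact mul_right_cancel₀ h3 (e1.trans e2.symm) }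
  have hfix : ∀ i ∈ J, ∀ t ∈ T, t ∈ Lv X i → χ t = 1 := by
    intro i hi t ht htL
    have h2 := hχ t ht
    rw [fix_of_mem_Lv (by rw [hJ]; exact hi) htL hc] at h2
    have h3 : (1 : AlgebraicClosure F) • c = χ t • c := by rw [one_smul]; exact h2
    exact (smul_left_injective _ hc0 h3).symm
  have hσm : ∀ i ∈ J, σ i ∈ J := by
    intro i hi
    by_contra hcon
    have h2 := hσJ _ hcon
    rw [hσ] at h2
    exact hcon (h2 ▸ hi)
  have hTS : T ≤ S := by
    refine hgen.trans ((Subgroup.closure_le _).2 ?_)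
    rintro t ⟨ht, h2⟩
    refine ⟨ht, ?_⟩
    rcases h2 with ⟨i, hi, h2⟩ | ⟨x, hx, hxw, h2, h3, -⟩ | ⟨h2, h3⟩
    · have h4 : w⁻¹ * t⁻¹ * w ∈ Lv X (σ i) := by
        have h5 : cj w (Lr X (sr (σ i))) = Lr X (sr i) := by
          rw [conj_Lr R hw (isRoot_sr cs h _), hw0, hσ, Lr_neg]
        have h6 : t⁻¹ ∈ cj w (Lr X (sr (σ i))) := by rw [h5]; exact inv_mem h2
        exact mem_cj.1 h6
      rw [hfix i hi t ht h2, hfix _ (hσm i hi) _ (hcj _ (inv_mem ht)) h4]
    · have h4 : w⁻¹ * t⁻¹ * w ∈ Lr X x := by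
        have h5 : cj w (Lr X x) = Lr X x := by
          rw [conj_Lr R hw (isRoot_of_RJ hx), hxw, Lr_neg]
        have h6 : t⁻¹ ∈ cj w (Lr X x) := by rw [h5]; exact inv_mem h2
        exact mem_cj.1 h6
      have h5 := hone x hx _ h3 (mul_mem h4 (inv_mem h2))
      rw [mul_inv_eq_one.1 h5]
    · have h4 : w⁻¹ * t⁻¹ * w = t := by
        rw [mul_assoc, ← Subgroup.mem_center_iff.1 (inv_mem (hZ h2)) w, inv_mul_cancel_left]
        exact inv_eq_of_mul_eq_one_left h3
      rw [h4]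
  have hz : ∀ i, Zi cs h n X (lin (acRep φ)) i ↔ Zi cs h n X (lin (acRep φ)) (σ i) := by
    intro i
    by_cases hi : i ∈ J
    · exact ⟨fun _ => Zi_of_mem R hirr (by rw [hJ]; exact hσm i hi), fun _ => Zi_of_mem R hirr (by rw [hJ]; exact hi)⟩
    · rw [hσJ i hi]
  intro g hg
  rw [← hφ] at hg
  obtain ⟨y, rfl⟩ := hg
  have h2 := trace_inv_of R (acRep φ) hirr hc hc0 hχ (oppW_of hσ hw0 hA R hw) hz (RingEquiv.refl _)
    (fun t ht => (hTS ht).2.symm) (g := y) (by rw [hGG]; trivial)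
  rw [RingEquiv.refl_apply, trace_acRep, trace_acRep, map_inv] at h2
  exact (algebraMap F (AlgebraicClosure F)).injective h2

end main

end Cfsg.Agent.H218.SdLift
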