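import Cfsg.Agent.H218.ElevT
import Cfsg.Agent.H882.Sc.M12El
import Cfsg.Agent.S0000

/-!
# `SL₁₁(q)`, `SU₁₁(q)`: the maximal subgroups in the residual class
-/

set_option autoImplicit false
set_option linter.unusedSectionVars false
set_option linter.unusedVariables false

namespace Cfsg.Agent.H218.Elev

open Cfsg Cfsg.Geo Matrix Cfsg.Agent.H915.LD

universe u

variable {F : Type u} [Field F] [Fintype F]

theorem known (P : Subgroup (GL (Fin 11) F)) (hC : Core P) : IsKnownSimple' (Soc P) := by
  haveI := hC.simple
  exact Cfsg.Agent.S0000.result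

theorem rest (p : ℕ) [CharP F p] : Rest F p where
  m12 h3 P hC h := by
    subst h3
    exact (H882.Sc.m12_free hC (by exact_mod_cast CharP.cast_eq_zero F 3) (Fintype.card_fin 11) h).elim

theorem todo_all (p : ℕ) (hp : p.Prime) (hch : CharP F p) : Todo F p := by
  haveI := Fact.mk hp
  haveI := hch
  exact todo p (rest p)

end Cfsg.Agent.H218.Elev
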