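import Cfsg.Agent.H936.List12
import Cfsg.Agent.H464.L2StageOne
import Cfsg.Agent.H937.T2Rep
import Cfsg.Agent.H637.A7Main
import Cfsg.Agent.H659.Sp4Stage
import Cfsg.Agent.H936.U33Two
import Cfsg.Agent.H36.U52.Main
import Cfsg.Agent.H4.LDM.Stage24
import Cfsg.Agent.H4.LDM.M23Kill
import Cfsg.Agent.H4.LDM.PSLKill
import Cfsg.Agent.H916.SpSixK
import Cfsg.Agent.H916.OmD
import Cfsg.Agent.H887.DS.Low
import Cfsg.Agent.H929.UThreeMain
import Cfsg.Agent.H927.LDTwF4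
import Cfsg.Agent.H48.NatSUEq
import Cfsg.Agent.H6.M11.Main11
import Cfsg.Agent.H1.TJ1
import Cfsg.Agent.H95.LSx.G23
import Cfsg.Agent.H218.SdDC

/-!
# Residual cores in dimension eleven

`elev` : a core `P ≤ GL₁₁(F)` is self-dual, or of type `PSL₂(23)`, `PSU₅(2)`, `M₂₃`, `M₂₄` (`|F| = 2`), `PSL₁₁(K)` or
`PSU_N(K)`, `char K = char F`.
-/

set_option autoImplicit false
set_option linter.unusedSectionVars false
set_option linter.unusedVariables false

namespace Cfsg.Agent.H218.Elev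

open Cfsg Cfsg.Geo Matrix Cfsg.Agent.H915.LD Cfsg.Agent.H936.List12 Cfsg.Agent.H912.Bd Cfsg.Agent.H912.Five

universe u v

/-- The outcomes. -/
def Out {F : Type u} [Field F] [Fintype F] (p : ℕ) (P : Subgroup (GL (Fin 11) F)) : Prop :=
  SD P ∨
  (p ≠ 23 ∧ Nonempty (Soc P ≃* ProjectiveSpecialLinearGroup (Fin 2) (ZMod 23)) ∧
    (IsSquare (p : ZMod 23) → Fr P p) ∧ (¬ IsSquare (p : ZMod 23) → Cj P p)) ∨
  (p ≠ 2 ∧ p ≠ 3 ∧ (∃ (K : Type) (_ : Field K) (_ : Fintype K), Fintype.card K = 4 ∧ Nonempty (Soc P ≃* PSU 5 K 2)) ∧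
    ((p % 3 = 1 ∧ Fr P p) ∨ (p % 3 = 2 ∧ Cj P p))) ∨
  (p = 2 ∧ Fintype.card F = 2 ∧ (Spor.IsoM24 (Soc P) ∨ Spor.IsoM23 (Soc P)))

/-- The pieces that are not available yet. -/
structure Todo (F : Type u) [Field F] [Fintype F] (p : ℕ) : Prop where
  alt : ∀ P : Subgroup (GL (Fin 11) F), Core P → ∀ m, 8 ≤ m → m ≤ 13 →
    Nonempty (Soc P ≃* alternatingGroup (Fin m)) → ¬ IsLieTypeChar p (Soc P) → SD P
  l33 : ∀ P : Subgroup (GL (Fin 11) F), Core P → p ≠ 3 → IsL 3 3 (Soc P) → SD P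
  u33 : ∀ P : Subgroup (GL (Fin 11) F), Core P → p ≠ 3 → p ≠ 2 → IsU 3 3 (Soc P) → SD P
  sz8 : ∀ P : Subgroup (GL (Fin 11) F), Core P → p ≠ 2 → IsSz8 (Soc P) → SD P
  m12 : ∀ P : Subgroup (GL (Fin 11) F), Core P → Spor.IsoM12 (Soc P) → SD P
  spor : ∀ P : Subgroup (GL (Fin 11) F), Core P → IsSporadicGroup (Soc P) →
    Spor.IsoM11 (Soc P) ∨ Spor.IsoM12 (Soc P) ∨ Spor.IsoM23 (Soc P) ∨ Spor.IsoM24 (Soc P) ∨ SD P

variable {F : Type u} [Field F] [Fintype F] {P : Subgroup (GL (Fin 11) F)}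

theorem zero_or_one {K : Type v} [Field K] [Fintype K] (hK : Fintype.card K = 2) (x : K) : x = 0 ∨ x = 1 := by
  classical
  have : Finset.univ = ({0, 1} : Finset K) := by
    symm
    apply Finset.eq_univ_of_card
    rw [Finset.card_pair zero_ne_one, hK]
  have h := Finset.mem_univ x
  rw [this] at h
  simpa using h

section cross

variable (p : ℕ) [hp : Fact p.Prime] [CharP F p]

theorem alt_case (T : Todo F p) (hC : Core P) (hL : ¬ IsLieTypeChar p (Soc P)) (h : AltC p 11 (Soc P)) : SD P := by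
  obtain ⟨m, h5, h14, -, -, h12, ⟨e⟩⟩ := h
  have h13 : m ≤ 13 := by
    by_contra hcon
    have := h12 (by omega)
    omega
  rcases Nat.lt_or_ge m 8 with h8 | h8
  · interval_cases m
    · exact H937.T2.a5_sd hC e
    · exact H937.T2.a6_sd_of_not_dvd hC e (by rw [Fintype.card_fin]; norm_num)
    · rcases H637.A7Main.coprime_three p hC e (by rw [Fintype.card_fin]; norm_num) with h | ⟨h, -⟩
      · exact h
      · rw [Fintype.card_fin] at h
        omega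
  · exact T.alt P hC m h8 h13 ⟨e⟩ hL

theorem l2_case (hC : Core P) {q : ℕ} (hq : q ∈ ({7, 8, 11, 13, 17, 19, 23, 25} : Finset ℕ)) (hpq : ¬ p ∣ q)
    (h : IsL 2 q (Soc P)) : Out p P := by
  obtain ⟨K, i1, i2, hK, ⟨e⟩⟩ := h
  have h5 : 5 ≤ Fintype.card K := by
    rw [hK]
    simp only [Finset.mem_insert, Finset.mem_singleton] at hq
    omega
  have h9 : Fintype.card K ≠ 9 := by
    rw [hK]
    simp only [Finset.mem_insert, Finset.mem_singleton] at hq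
    omega
  rcases H464.Sl2.l2_stage1_le p hC h5 h9 (by rwa [hK]) e (by rw [Fintype.card_fin]; norm_num) with h | ⟨h, hs, hns⟩
  · exact Or.inl h
  · rw [Fintype.card_fin] at h
    have h23 : Fintype.card K = 23 := by omega
    have : Fact (Nat.Prime 23) := ⟨by norm_num⟩
    rw [h23] at hs hns
    refine Or.inr (Or.inl ⟨?_, ?_, hs, hns⟩)
    · rintro rfl
      rw [← hK, h23] at hpq
      exact hpq dvd_rfl
    · exact ⟨e.trans (LieClassical.FieldTransfer.pslCongr (ZMod.ringEquivOfPrime K (by norm_num) h23)).symm⟩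

theorem lie_case (T : Todo F p) (hC : Core P) (h : LieC p 11 (Soc P)) : Out p P := by
  rcases h with ⟨q, hq, hpq, -, h⟩ | ⟨h3, -, h⟩ | ⟨h3, -, h⟩ | ⟨-, h, -⟩ | ⟨h2, h3, -, h⟩ | ⟨h2, -, h⟩ | ⟨-, h, -⟩ |
    ⟨h2, -, h⟩ | ⟨h2, -, h⟩
  · exact l2_case p hC hq hpq h
  · exact Or.inl (T.l33 P hC h3 h)
  · by_cases hp2 : p = 2
    · subst hp2
      obtain ⟨K, i1, i2, hK, e⟩ := h
      have := (H936.U33Two.u33_two hC (K := K) (by rw [hK]; norm_num) e (by rw [Fintype.card_fin]; norm_num)).1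
      rw [Fintype.card_fin] at this
      omega
    · exact Or.inl (T.u33 P hC h3 hp2 h)
  · omega
  · obtain ⟨K, i1, i2, hK, ⟨e⟩⟩ := h
    rcases H659.Sp4.u42_stage' hC p h2 h3 (by rw [Fintype.card_fin]; norm_num) (by rw [hK]; norm_num) e with
      h | ⟨h | h, -⟩ | ⟨h, -⟩ <;> rw [Fintype.card_fin] at h <;> omega
  · obtain ⟨K, i1, i2, hK, ⟨e⟩⟩ := h
    rcases H36.U52.t6 hC p h2 (by norm_num) (by rw [hK]; norm_num) e with ⟨h, -⟩ | ⟨-, h3, -, h⟩
    · omega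
    · exact Or.inr (Or.inr (Or.inl ⟨h2, h3, ⟨K, i1, i2, by rw [hK]; norm_num, ⟨e⟩⟩, h⟩))
  · omega
  · obtain ⟨K, i1, i2, hK, ⟨e⟩⟩ := h
    have := H916.SpSix.spSix_dim (K := K) ?_ hC e (by exact_mod_cast cast_ne (F := F) Nat.prime_two (Ne.symm h2)) (by rw [Fintype.card_fin]; norm_num)
    · rw [Fintype.card_fin] at this
      omega
    · exact zero_or_one hK
  · obtain ⟨K, i1, i2, hK, ⟨e⟩⟩ := h
    have := H916.Om.omega_dim (K := K) (zero_or_one hK) hC e (by exact_mod_cast cast_ne (F := F) Nat.prime_two (Ne.symm h2)) (by rw [Fintype.card_fin]; norm_num)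
    rw [Fintype.card_fin] at this
    omega

theorem exc_case (T : Todo F p) (hC : Core P) (h : ExcC p 11 (Soc P)) : SD P := by
  rcases h with ⟨h3, -, h⟩ | ⟨h2, -, h⟩
  · obtain ⟨K, i1, i2, hK, e⟩ := h
    exfalso
    have := le_of_ls' hC (cast_ne (F := F) Nat.prime_three (Ne.symm h3)) (H95.LSx.G23.ls hK) e
    omega
  · exact T.sz8 P hC h2 h

theorem spor_case (T : Todo F p) (hC : Core P) (h : IsSporadicGroup (Soc P)) : Out p P := by
  rcases T.spor P hC h with h | h | h | h | h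
  · rcases H6.M11.m11 hC p h (by rw [Fintype.card_fin]; norm_num) with h | ⟨h, -⟩ | ⟨h, -⟩
    · exact Or.inl h
    all_goals rw [Fintype.card_fin] at h; omega
  · exact Or.inl (T.m12 P hC h)
  · obtain ⟨e⟩ := id h
    have := H4.LDM.Stage.m23_low hC e p (by rw [Fintype.card_fin]; norm_num)
    exact Or.inr (Or.inr (Or.inr ⟨this.1, this.2.2.2, Or.inr h⟩))
  · obtain ⟨e⟩ := id h
    have := H4.LDM.Stage.m24_low hC e p (by rw [Fintype.card_fin]; norm_num)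
    exact Or.inr (Or.inr (Or.inr ⟨this.1, this.2.2.2, Or.inl h⟩))
  · exact Or.inl h

/-- **Cross characteristic.** -/
theorem cross (T : Todo F p) (hC : Core P) (hk : IsKnownSimple' (Soc P)) (hL : ¬ IsLieTypeChar p (Soc P)) : Out p P := by
  rcases list₀ (n := 11) (by norm_num) hC hk hL with (h | h | h | h) | h
  · exact Or.inl (alt_case p T hC hL h)
  · exact lie_case p T hC h
  · exfalso
    rcases h with ⟨-, h, -⟩ | ⟨-, h, -⟩ <;> omega
  · exact Or.inl (exc_case p T hC h)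
  · exact spor_case p T hC h

end cross

section own

variable (p : ℕ) [hp : Fact p.Prime] [CharP F p]

/-- **Own characteristic.** -/
theorem own (hC : Core P) (hL : IsLieTypeChar p (Soc P)) :
    SD P ∨ P = specialLinear (Fin 11) F ∨
    (∃ (K : Type) (_ : Field K) (_ : Fintype K) (_ : CharP K p) (N q : ℕ),
      Fintype.card K = q ^ 2 ∧ 4 ≤ N ∧ N ≤ 11 ∧ Nonempty (Soc P ≃* PSU N K q)) := by
  rcases SdDC.sd_dc p hC (by rw [Fintype.card_fin]; norm_num) hL with h | ⟨K, i1, i2, i3, l, hl, hK, ⟨e⟩⟩ |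
    ⟨K, i1, i2, i3, N, q, hK, hN, hN', h32, ⟨e⟩⟩ | ⟨-, hp2, h⟩
  · exact Or.inl h
  · rcases Nat.lt_or_ge l 2 with h1 | h1
    · obtain rfl : l = 1 := by omega
      exact Or.inl (H875.DefCov.sd_of_psl2 hC p (by have := hK rfl; omega) e)
    · have h2 := H905.Md.psl_rank p hC.absIrred hC.perfect hl hK e
      rw [Fintype.card_fin] at h2
      by_cases h11 : l + 1 = 11
      · exact Or.inr (Or.inl (H905.Md.psl_eq p hC.absIrred hC.perfect hl hK e hC.no_subfield h11.symm).2)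
      · exact Or.inl (H887.DS.sd_of_psl p (m := l + 1) hC (by omega) (by rw [Fintype.card_fin]; omega)
          (Or.inr (Or.inr (Fintype.card_fin 11))) e).1
  · rcases Nat.lt_or_ge N 4 with h4 | h4
    · obtain rfl : N = 3 := by omega
      rcases H929.U3.core_psu3 p hC (q := q) (by
        by_contra hcon
        push Not at hcon
        have h5 : 1 < Fintype.card K := Fintype.one_lt_card
        rw [hK] at h5
        have h6 : q = 2 ∨ q = 1 ∨ q = 0 := by omega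
        rcases h6 with rfl | rfl | rfl
        · exact h32 ⟨rfl, rfl⟩
        · norm_num at h5
        · norm_num at h5) hK e (by rw [Fintype.card_fin]; norm_num) with h | ⟨-, h | ⟨h, -⟩ | ⟨h, -⟩ | ⟨h, -⟩⟩
      · exact Or.inl h
      all_goals rw [Fintype.card_fin] at h; omega
    · rw [Fintype.card_fin] at hN'
      exact Or.inr (Or.inr ⟨K, i1, i2, i3, N, q, hK, h4, by omega, ⟨e⟩⟩)
  · exfalso
    have := H927.LDTwF4.card_le_iso (F := F) (p := p) hp2 hC.perfect h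
    rw [Fintype.card_fin] at this
    omega

end own

section rows

theorem square_23 {p : ℕ} (h23 : p.Prime) (hne : p ≠ 23) (h : IsSquare (p : ZMod 23)) :
    (p % 23 = 1 ∨ p % 23 = 2 ∨ p % 23 = 3 ∨ p % 23 = 4 ∨ p % 23 = 6 ∨ p % 23 = 8 ∨ p % 23 = 9 ∨ p % 23 = 12 ∨
      p % 23 = 13 ∨ p % 23 = 16 ∨ p % 23 = 18) := by
  have h0 : p % 23 ≠ 0 := by
    intro h0
    exact hne ((Nat.prime_dvd_prime_iff_eq (by norm_num) h23).1 (Nat.dvd_of_mod_eq_zero h0)).symm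
  have h1 : ((p % 23 : ℕ) : ZMod 23) = (p : ZMod 23) := by rw [ZMod.natCast_mod]
  rw [← h1] at h
  have h2 : p % 23 < 23 := Nat.mod_lt _ (by norm_num)
  generalize p % 23 = r at *
  revert h
  interval_cases r <;> first | omega | decide

theorem nonsquare_23 {p : ℕ} (h : ¬ IsSquare (p : ZMod 23)) :
    (p % 23 = 5 ∨ p % 23 = 7 ∨ p % 23 = 10 ∨ p % 23 = 11 ∨ p % 23 = 14 ∨ p % 23 = 15 ∨ p % 23 = 17 ∨ p % 23 = 19 ∨
      p % 23 = 20 ∨ p % 23 = 21 ∨ p % 23 = 22) := by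
  have h1 : ((p % 23 : ℕ) : ZMod 23) = (p : ZMod 23) := by rw [ZMod.natCast_mod]
  rw [← h1] at h
  have h2 : p % 23 < 23 := Nat.mod_lt _ (by norm_num)
  generalize p % 23 = r at *
  revert h
  interval_cases r <;> first | omega | decide

/-- **`SL₁₁(q)`.** -/
theorem sl11 (T : ∀ p, p.Prime → CharP F p → Todo F p)
    (known : ∀ P : Subgroup (GL (Fin 11) F), Core P → IsKnownSimple' (Soc P))
    (H : Subgroup (GL (Fin 11) F)) (hH : IsMaximalIn (specialLinear (Fin 11) F) H)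
    (hS : InLinearResidualClass H) :
    ∃ (P : Subgroup (Matrix.GeneralLinearGroup (Fin 11) F)) (p : ℕ), Cfsg.Geo.IsResidualCore H P ∧ p.Prime ∧ Fintype.card F = p ∧
    ((Nonempty ((P ⧸ (Cfsg.Geo.scalars (Fin 11) F).subgroupOf P) ≃* Matrix.ProjectiveSpecialLinearGroup (Fin 2) (ZMod 23)) ∧ p ≠ 2 ∧ (p % 23 = 1 ∨ p % 23 = 2 ∨ p % 23 = 3 ∨ p % 23 = 4 ∨ p % 23 = 6 ∨ p % 23 = 8 ∨ p % 23 = 9 ∨ p % 23 = 12 ∨ p % 23 = 13 ∨ p % 23 = 16 ∨ p % 23 = 18)) ∨
     ((∃ (K : Type) (_ : Field K) (_ : Fintype K), Fintype.card K = 4 ∧ Nonempty ((P ⧸ (Cfsg.Geo.scalars (Fin 11) F).subgroupOf P) ≃* Cfsg.PSU 5 K 2)) ∧ p % 3 = 1) ∨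
     (Cfsg.Spor.IsoM24 (P ⧸ (Cfsg.Geo.scalars (Fin 11) F).subgroupOf P) ∧ p = 2)) := by
  obtain ⟨P, hP, hC, hsd, hcj⟩ := linear_core hS
  obtain ⟨p, hch⟩ := CharP.exists F
  have hp : Fact p.Prime := ⟨CharP.char_is_prime F p⟩
  have hcj1 : ¬ Cj P p := by
    have := hcj p hp hch 1
    rwa [pow_one] at this
  by_cases hL : IsLieTypeChar p (Soc P)
  · exfalso
    rcases own p hC hL with h | h | ⟨K, i1, i2, i3, N, q, hK, hN, -, ⟨e⟩⟩
    · exact hsd h
    · exact hH.1.not_ge (h ▸ hP.le)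
    · obtain ⟨f, hq⟩ : ∃ f, q = p ^ f := by
        obtain ⟨m, -, hm⟩ := FiniteField.card K p
        rw [hK] at hm
        exact (Nat.dvd_prime_pow hp.out).1 (hm ▸ Dvd.intro_left q (by ring) : q ∣ p ^ (m : ℕ)) |>.imp fun k hk => hk.2
      have h1 := H929.U3.core_psu_cj p hC (by omega) hK (by omega) e
      rw [hq] at h1
      exact hcj p hp hch f h1
  · rcases cross p (T p hp.out hch) hC (known P hC) hL with h | ⟨h23, h, hs, hns⟩ | ⟨h2, h3, h, h' | h'⟩ | ⟨h2, hF, h | h⟩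
    · exact (hsd h).elim
    · have hsq : IsSquare (p : ZMod 23) := by
        by_contra hcon
        exact hcj1 (hns hcon)
      have hF := hC.card_eq p (hs hsq)
      refine ⟨P, p, hP, hp.out, hF, Or.inl ⟨h, ?_, square_23 hp.out h23 hsq⟩⟩
      rintro rfl
      exact H4.LDM.l2_23_not_maximal hF hH hP.le hP.normal h
    · exact ⟨P, p, hP, hp.out, hC.card_eq p h'.2, Or.inr (Or.inl ⟨h, h'.1⟩)⟩
    · exact (hcj1 h'.2).elim
    · exact ⟨P, p, hP, hp.out, hF.trans h2.symm, Or.inr (Or.inr ⟨h, h2⟩)⟩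
    · exact (H4.LDM.m23_not_maximal hF hH hP.le hP.normal h).elim

/-- **`SU₁₁(q)`.** -/
theorem su11 (T : ∀ p, p.Prime → CharP F p → Todo F p)
    (known : ∀ P : Subgroup (GL (Fin 11) F), Core P → IsKnownSimple' (Soc P))
    (D3 : ∀ P : Subgroup (GL (Fin 11) F), Core P → ∀ (p : ℕ) (_ : p.Prime) (_ : CharP F p) (K : Type) (_ : Field K)
      (_ : Fintype K) (_ : CharP K p) (N q : ℕ), Fintype.card K = q ^ 2 → 4 ≤ N → N ≤ 10 →
      Nonempty (Soc P ≃* PSU N K q) → SD P)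
    (q : ℕ) (hF : Fintype.card F = q ^ 2)
    (H : Subgroup (GL (Fin 11) F)) (hH : IsMaximalIn (GU 11 F q ⊓ specialLinear (Fin 11) F) H)
    (hS : InUnitaryResidualClass H) :
    ∃ P : Subgroup (Matrix.GeneralLinearGroup (Fin 11) F), Cfsg.Geo.IsResidualCore H P ∧ q.Prime ∧
    ((Nonempty ((P ⧸ (Cfsg.Geo.scalars (Fin 11) F).subgroupOf P) ≃* Matrix.ProjectiveSpecialLinearGroup (Fin 2) (ZMod 23)) ∧ (q % 23 = 5 ∨ q % 23 = 7 ∨ q % 23 = 10 ∨ q % 23 = 11 ∨ q % 23 = 14 ∨ q % 23 = 15 ∨ q % 23 = 17 ∨ q % 23 = 19 ∨ q % 23 = 20 ∨ q % 23 = 21 ∨ q % 23 = 22)) ∨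
     ((∃ (K : Type) (_ : Field K) (_ : Fintype K), Fintype.card K = 4 ∧ Nonempty ((P ⧸ (Cfsg.Geo.scalars (Fin 11) F).subgroupOf P) ≃* Cfsg.PSU 5 K 2)) ∧ q % 3 = 2 ∧ q ≠ 2)) := by
  obtain ⟨P, hP, hC, hsd⟩ := unitary_core hS
  obtain ⟨p, hch⟩ := CharP.exists F
  have hp : Fact p.Prime := ⟨CharP.char_is_prime F p⟩
  have hPle : P ≤ GU 11 F q ⊓ specialLinear (Fin 11) F := hP.le.trans hH.1.le
  have hnfr := not_fr_of_card hC p hF
  by_cases hL : IsLieTypeChar p (Soc P)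
  · exfalso
    rcases own p hC hL with h | h | ⟨K, i1, i2, i3, N, q', hK, hN, hN', ⟨e⟩⟩
    · exact hsd h
    · exact hH.1.not_ge (inf_le_right.trans (h ▸ hP.le))
    · rcases Nat.lt_or_ge 10 N with h10 | h10
      · have h11 : N = 11 := by omega
        have := (H48.NatSU.psu_eq hC p hF (hPle.trans inf_le_left) hK (by omega) (by omega) e h11).2
        exact hH.1.not_ge (this ▸ hP.le)
      · exact hsd (D3 P hC p hp.out hch K i1 i2 i3 N q' hK hN h10 ⟨e⟩)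
  · rcases cross p (T p hp.out hch) hC (known P hC) hL with h | ⟨h23, h, hs, hns⟩ | ⟨h2, h3, h, h' | h'⟩ | ⟨h2, hF', -⟩
    · exact (hsd h).elim
    · have hsq : ¬ IsSquare (p : ZMod 23) := fun hcon => hnfr (hs hcon)
      have hq := q_eq_of_cj hC p hF (hns hsq)
      subst hq
      exact ⟨P, hP, hp.out, Or.inl ⟨h, nonsquare_23 hsq⟩⟩
    · exact (hnfr h'.2).elim
    · have hq := q_eq_of_cj hC p hF h'.2
      subst hq
      exact ⟨P, hP, hp.out, Or.inr ⟨h, h'.1, h2⟩⟩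
    · exfalso
      rw [hF] at hF'
      have h1 : q < 2 := by nlinarith
      interval_cases q <;> omega

end rows

end Cfsg.Agent.H218.Elev
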