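import Cfsg.Agent.H875.SteinDef
import Cfsg.Agent.H922.OmKill
import Cfsg.Agent.H879.TL.KillSp
import Cfsg.Agent.H879.TL.Adapt
import Cfsg.Agent.H879.TL.Reindex
import Cfsg.Agent.H879.Nine.RowPSU
import Cfsg.Agent.H879.Nine.RowPSL
import Cfsg.Agent.H887.DS.Low
import Cfsg.Agent.H929.UThreeModel
import Cfsg.Agent.H905.MdN
import Cfsg.Agent.H905.Sp4Final

/-!
# `Ω₁₁(q)`, own characteristic
-/

set_option autoImplicit false
set_option linter.unusedSectionVars false
set_option linter.unusedVariables false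

namespace Cfsg.Agent.H218.ElevOm

open Cfsg Cfsg.Geo Matrix Cfsg.Agent.H915.LD Cfsg.Agent.H48.NatSU

universe u v

variable {F : Type u} [Field F] [Fintype F]

/-- `PSU_m(q)`, `m ≥ 7`, self-dual, degree at most 13 : impossible (as `H879.Nine.own_psu`). -/
theorem own_psu {p : ℕ} [hp : Fact p.Prime] [CharP F p] {n : ℕ} (hn9 : n ≤ 13) {P : Subgroup (GL (Fin n) F)} (hC : Core P)
    (hsd : SD P) {K : Type} [Field K] [Fintype K] [CharP K p] {m q : ℕ} (hm : 7 ≤ m) (hK : Fintype.card K = q ^ 2)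
    (e : Soc P ≃* PSU m K q) : False := by
  have hcj := psu_cj hC p hK (by omega) (by omega) e
  obtain ⟨p', b, hp', hch, hq, hb⟩ := LieClassical.HermBasic.exists_prime_pow hK
  obtain rfl : p' = p := CharP.eq K hch ‹_›
  have hfr : Fr P (p' ^ b) := by rw [← hq]; exact Fr.of_sd_cj hsd hcj
  obtain ⟨f, hf, hF⟩ := FiniteField.card F p'
  -- `f ≤ b`
  have hfb : (f : ℕ) ≤ b := by
    have h1 := hC.card_le p' hb.ne' hfr
    rw [hF] at h1
    exact (Nat.pow_le_pow_iff_right hp'.one_lt).1 h1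
  obtain ⟨r, hr, ho⟩ := Cfsg.Agent.Lib.Zsigmondy.exists_prime_orderOf (a := p') (n := 14 * b) hp'.two_le (by omega)
    (fun h => by omega) (fun h => by omega)
  have := Fact.mk hr
  have hrp : ¬ r ∣ p' := by
    intro h
    have h1 : (p' : ZMod r) = 0 := (ZMod.natCast_eq_zero_iff _ _).2 h
    rw [h1, orderOf_zero] at ho
    omega
  have h1 : ¬ r ∣ Nat.card (GL (Fin n) F) :=
    H879.Nine.not_dvd_card_GL hr ho hrp f.pos hF (by
      calc (f : ℕ) * n ≤ b * 13 := Nat.mul_le_mul hfb hn9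
        _ < 14 * b := by omega)
  apply h1
  obtain ⟨φ, hφ, hk, -⟩ := psu_cover p' hK (by omega) (by omega) hC.perfect e
  have hfin : Finite (SU m K q) := inferInstance
  have h2 : Nat.card (SU m K q) = Nat.card φ.ker * Nat.card P := by
    rw [Subgroup.card_eq_card_quotient_mul_card_subgroup φ.ker,
      Nat.card_congr (QuotientGroup.quotientKerEquivRange φ).toEquiv, hφ, mul_comm]
  have hq2 : 2 ≤ q := two_le_of_sq hK
  -- orders
  have hord : ∀ k, r ∣ p' ^ k - 1 → 14 * b ∣ k := by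
    intro k hk
    have h3 : ((p' ^ k - 1 : ℕ) : ZMod r) = 0 := (ZMod.natCast_eq_zero_iff _ _).2 hk
    rw [Nat.cast_sub (Nat.one_le_pow _ _ hp'.pos), sub_eq_zero] at h3
    push_cast at h3
    have h4 := orderOf_dvd_of_pow_eq_one h3
    rwa [ho] at h4
  have h10 : r ∣ q ^ 14 - 1 := by
    have h3 : (p' : ZMod r) ^ (14 * b) = 1 := by rw [← ho]; exact pow_orderOf_eq_one _
    have h4 : ((p' ^ (14 * b) - 1 : ℕ) : ZMod r) = 0 := by
      rw [Nat.cast_sub (Nat.one_le_pow _ _ hp'.pos), sub_eq_zero]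
      push_cast
      exact h3
    have h5 := (ZMod.natCast_eq_zero_iff _ _).1 h4
    rw [hq, ← pow_mul, mul_comm b 14]
    exact h5
  have h5 : r ∣ q ^ 7 + 1 := by
    have h3 : q ^ 14 - 1 = (q ^ 7 + 1) * (q ^ 7 - 1) := by
      have h4 := Nat.sq_sub_sq (q ^ 7) 1
      rw [← pow_mul, one_pow] at h4
      exact h4
    rw [h3, hr.dvd_mul] at h10
    rcases h10 with h10 | h10
    · exact h10
    · exfalso
      rw [hq, ← pow_mul] at h10
      have := Nat.le_of_dvd (by omega) (hord _ h10)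
      omega
  have hkc : ¬ r ∣ Nat.card φ.ker := by
    intro hd
    have h4 : Nat.card φ.ker ∣ q + 1 := by
      refine (Subgroup.card_dvd_of_le hk).trans ?_
      rw [Cfsg.Agent.S0279.result hK m (by omega)]
      exact Nat.gcd_dvd_right _ _
    have h6 : r ∣ q ^ 2 - 1 := by
      have h7 := Nat.sq_sub_sq q 1
      rw [one_pow] at h7
      rw [h7]
      exact (hd.trans h4).mul_right _
    rw [hq, ← pow_mul] at h6
    have := Nat.le_of_dvd (by omega) (hord _ h6)
    omega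
  have h6 : r ∣ Nat.card (SU m K q) := H948.UProd.dvd_card_SU hK (i := 6) (by omega) (by omega) (by
    unfold H948.UProd.ph
    rw [if_pos (by decide)]
    exact h5)
  rw [h2, hr.dvd_mul] at h6
  exact (h6.resolve_left hkc).trans (Subgroup.card_subgroup_dvd_card P)

/-- The pieces that are not available yet. -/
structure TodoOwn (F : Type u) [Field F] [Fintype F] (p : ℕ) : Prop where
  psu : ∀ P : Subgroup (GL (Fin 11) F), Core P → SD P → ∀ (K : Type) (_ : Field K) (_ : Fintype K) (_ : CharP K p)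
    (N q : ℕ), Fintype.card K = q ^ 2 → 4 ≤ N → N ≤ 6 → Nonempty (Soc P ≃* PSU N K q) → False
  ree : ∀ P : Subgroup (GL (Fin 11) F), Core P → SD P → p = 3 → Lie.IsoRee (Soc P) → False
  g2 : ∀ P : Subgroup (GL (Fin 11) F), Core P → SD P → ∀ (K : Type) (_ : Field K) (_ : Fintype K) (_ : CharP K p),
    3 ≤ Fintype.card K → Nonempty (Soc P ≃* Lie.chevG2.group K) → False
  d4 : ∀ P : Subgroup (GL (Fin 11) F), Core P → SD P → ∀ (K : Type) (_ : Field K) (_ : Fintype K) (_ : CharP K p)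
    (q : ℕ), IsPrimePow q → Fintype.card K = q ^ 3 → Nonempty (Soc P ≃* Lie.twistedD4 K q) → False

open H879.TL H879.Nine

variable {H P : Subgroup (GL (Unit ⊕ (Fin 5 ⊕ Fin 5)) F)}

theorem card_eleven : Fintype.card (Unit ⊕ (Fin 5 ⊕ Fin 5)) = 11 := by simp

theorem own_eleven (hodd : Odd (Fintype.card F)) (p : ℕ) [hp : Fact p.Prime] [CharP F p] (T : TodoOwn F p)
    (hH : IsMaximalIn (omegaGL (quadFormOdd 5 F)) H) (hc : IsResidualCore H P)
    (hL : IsLieTypeChar p (Soc P)) :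
    Nonempty (Soc P ≃* ProjectiveSpecialLinearGroup (Fin 2) F) ∧ 11 ≤ p ∧ Fintype.card F ≠ 11 := by
  classical
  have hC := core_of_residual hc
  have hcard := card_eleven
  have h2 : (2 : F) ≠ 0 := H922.OmGL.finite_two_ne hodd
  have hQ : IsNondegenerateQuadraticForm (quadFormOdd 5 F) := by
    rw [← LieClassical.OrthForms.coe_oddForm]
    exact H883.Bridge.isNondegenerateQuadraticForm (LieClassical.OrthForms.nondeg_oddForm 5 F h2)
  have hPΩ : P ≤ omegaGL (quadFormOdd 5 F) := hc.le.trans hH.1.le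
  have hfix : FixQ P := ⟨_, hQ, by rintro _ ⟨g, hg, rfl⟩ v; exact isometry_of_mem (hPΩ hg) v⟩
  have hsd : SD P := sd_of_fixQ hfix
  have hbot : (scalars (Unit ⊕ (Fin 5 ⊕ Fin 5)) F).subgroupOf P = ⊥ :=
    scalars_bot_of_odd hC hfix (by rw [hcard]; decide)
  have hp2 : p ≠ 2 := by
    rintro rfl
    exact h2 (by exact_mod_cast CharP.cast_eq_zero F 2)
  have hoddK : ∀ (K : Type) [Field K] [Fintype K] [CharP K p], Odd (Fintype.card K) := by
    intro K _ _ _
    obtain ⟨m, -, hm⟩ := FiniteField.card K p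
    rw [hm]
    exact (hp.out.odd_of_ne_two hp2).pow
  let ε : (Unit ⊕ (Fin 5 ⊕ Fin 5)) ≃ Fin 11 := Fintype.equivFinOfCardEq hcard
  have hC' : Core (H879.Rx.rx ε P) := H879.Rx.core_rx ε hC
  have hsd' : SD (H879.Rx.rx ε P) := H879.Rx.sd_rx ε hsd
  have s : Soc (H879.Rx.rx ε P) ≃* Soc P := (H879.Rx.socEqv ε P).symm
  haveI := hC.simple
  rcases H905.Md.small_dc (p := p) hC.absIrred.1 hC.perfect hL (by rw [hcard]; norm_num) with
    ⟨K, i1, i2, i3, l, hl, hK, ⟨e⟩⟩ | ⟨K, i1, i2, i3, m, hm, -, h3, ⟨e⟩⟩ | ⟨K, i1, i2, i3, N, q, hK, hN, hN', h32, ⟨e⟩⟩ |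
    ⟨h, -⟩ | ⟨h3, h⟩ | ⟨K, i1, i2, i3, m, hm, -, hoK, e⟩ | ⟨K, i1, i2, i3, m, hm, -, e⟩ |
    ⟨K, i1, i2, i3, m, a, b, hm, -, hab, e⟩ | ⟨-, K, i1, i2, i3, h3, ⟨e⟩⟩ |
    ⟨-, K, i1, i2, i3, q, hq, hK, ⟨e⟩⟩ | ⟨-, h, -⟩
  · -- PSL
    rcases Nat.lt_or_ge l 2 with h1 | h1
    · obtain rfl : l = 1 := by omega
      exact H875.Stein.omega_eleven p h2 hQ hcard hH hc e
    · exfalso
      have h4 := H905.Md.psl_rank p hC.absIrred hC.perfect hl hK e
      rw [hcard] at h4
      by_cases h11 : l + 1 = 11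
      · have h5 := (H905.Md.psl_eq p hC'.absIrred hC'.perfect hl hK (s.trans e) hC'.no_subfield h11.symm).2
        exact not_fixQ_sl (F := F) (n := 11) (by norm_num) (h5 ▸ H879.Rx.fixQ_rx ε hfix)
      · have := (H887.DS.sd_of_psl p (m := l + 1) hC (by omega) (by rw [hcard]; omega)
          (Or.inr (Or.inr hcard)) e).2.2
        rw [hcard] at this
        omega
  · -- PSp
    exfalso
    rcases Nat.lt_or_ge m 3 with h4 | h4
    · obtain rfl : m = 2 := by omega
      rcases (H905.Sp4.core_psp4 p hC (by rw [Nat.card_eq_fintype_card]; exact h3 rfl) e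
        (by rw [hcard]; norm_num)).2.2 with ⟨h, -⟩ | ⟨-, h, -⟩ | ⟨-, h, -⟩ | ⟨-, h, -⟩ <;> rw [hcard] at h <;> omega
    · have := kill_psp hC h2 hbot h4 (hoddK K) e
      rw [hcard] at this
      omega
  · -- PSU
    exfalso
    rcases Nat.lt_or_ge N 4 with h4 | h4
    · obtain rfl : N = 3 := by omega
      rcases H929.U3.core_psu3_sd p hC (q := q) (by
        by_contra hcon
        push Not at hcon
        have h5 : 1 < Fintype.card K := Fintype.one_lt_card
        rw [hK] at h5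
        have h6 : q = 2 ∨ q = 1 ∨ q = 0 := by omega
        rcases h6 with rfl | rfl | rfl
        · exact h32 ⟨rfl, rfl⟩
        · norm_num at h5
        · norm_num at h5) hK e (by rw [hcard]; norm_num) hsd with ⟨-, h⟩ | ⟨-, h⟩ <;> rw [hcard] at h <;> omega
    · rcases Nat.lt_or_ge N 7 with h7 | h7
      · exact T.psu _ hC' hsd' K i1 i2 i3 N q hK h4 (by omega) ⟨s.trans e⟩
      · exact own_psu (by norm_num) hC' hsd' h7 hK (s.trans e)
  · exact absurd h hp2
  · exact (T.ree _ hC' hsd' h3 (by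
      obtain ⟨K, i1, i2, m, hm, hK, ⟨e⟩⟩ := h
      exact ⟨K, i1, i2, m, hm, hK, ⟨s.trans e⟩⟩)).elim
  · exact (H922.OmGL.not_pomega (m := 5) hodd le_rfl hH.1 hc.le hC (Or.inl ⟨K, i1, i2, m, hm, hoK, e⟩)).elim
  · exact (H922.OmGL.not_pomega (m := 5) hodd le_rfl hH.1 hc.le hC
      (Or.inr (Or.inl ⟨K, i1, i2, m, hm, hoddK K, e⟩))).elim
  · exact (H922.OmGL.not_pomega (m := 5) hodd le_rfl hH.1 hc.le hC
      (Or.inr (Or.inr ⟨K, i1, i2, m, a, b, hm, hoddK K, hab, e⟩))).elim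
  · exact (T.g2 _ hC' hsd' K i1 i2 i3 h3 ⟨s.trans e⟩).elim
  · exact (T.d4 _ hC' hsd' K i1 i2 i3 q hq hK ⟨s.trans e⟩).elim
  · exact absurd h hp2

end Cfsg.Agent.H218.ElevOm
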