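import Cfsg.Agent.H218.ElevOm
import Cfsg.Agent.H876.D3.Main5
import Cfsg.Agent.H927.G2Main
import Cfsg.Agent.H708.ReeTw
import Cfsg.Agent.H392.TD.Main

/-!
# `Ω₁₁(q)`, own characteristic: complete
-/

set_option autoImplicit false
set_option linter.unusedSectionVars false
set_option linter.unusedVariables false

namespace Cfsg.Agent.H218.ElevOm

open Cfsg Cfsg.Geo Matrix Cfsg.Agent.H915.LD

universe u v

variable {F : Type u} [Field F] [Fintype F]

theorem todoOwn (p : ℕ) [hp : Fact p.Prime] [CharP F p] : TodoOwn F p where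
  psu P hC hsd K i1 i2 i3 N q hK h4 h6 h := by
    obtain ⟨e⟩ := h
    rcases H876.D3.core_psu p K h4 (by rw [Fintype.card_fin]; norm_num) hK hC e with h | ⟨-, h, -⟩ | ⟨-, h, -⟩ | ⟨-, h⟩ <;>
      rw [Fintype.card_fin] at h <;> omega
  ree P hC hsd h3 h := by
    subst h3
    obtain ⟨K, i1, i2, m, hm, hK, ⟨e⟩⟩ := h
    have := H708.ReeSix.ree_eq_seven hC hm hK e (by rw [Fintype.card_fin]; norm_num)
    rw [Fintype.card_fin] at this
    omega
  g2 P hC hsd K i1 i2 i3 h3 h := by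
    obtain ⟨e⟩ := h
    rcases (H927.G2.core_g2 p hC (by rwa [Nat.card_eq_fintype_card]) e
      (by rw [Fintype.card_fin]; norm_num)).2.2.2.2 with ⟨-, h, -⟩ | ⟨-, h, -⟩ <;> rw [Fintype.card_fin] at h <;> omega
  d4 P hC hsd K i1 i2 i3 q hq hK h := by
    obtain ⟨e⟩ := h
    have := (H392.TD.d4_small p hC hq hK e (by rw [Fintype.card_fin]; norm_num)).1
    rw [Fintype.card_fin] at this
    omega

variable {H P : Subgroup (GL (Unit ⊕ (Fin 5 ⊕ Fin 5)) F)}

/-- **`Ω₁₁(q)`, `q` odd, own characteristic.** -/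
theorem own_main (hodd : Odd (Fintype.card F)) (p : ℕ) [hp : Fact p.Prime] [CharP F p]
    (hH : IsMaximalIn (omegaGL (quadFormOdd 5 F)) H) (hc : IsResidualCore H P)
    (hL : IsLieTypeChar p (Soc P)) :
    Nonempty (Soc P ≃* ProjectiveSpecialLinearGroup (Fin 2) F) ∧ 11 ≤ p ∧ Fintype.card F ≠ 11 :=
  own_eleven hodd p (todoOwn p) hH hc hL

end Cfsg.Agent.H218.ElevOm
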