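import Cfsg.Agent.H218.Elev
import Cfsg.Agent.H614.AMod.Main
import Cfsg.Agent.H614.AMod.EightTwo
import Cfsg.Agent.H175.LD.Core33
import Cfsg.Agent.H659.U3Stage
import Cfsg.Agent.H814.SzEightCore
import Cfsg.Agent.H936.List12b
import Cfsg.Agent.H806.LsFiLe
import Cfsg.Agent.H95.JT.Core
import Cfsg.Agent.H1.TJ2
import Cfsg.Agent.H6.M11.Stage12
import Cfsg.Agent.H876.D3.Main5
import Cfsg.Agent.H921.M22.Two
import Cfsg.Agent.H878.Sz.MainP3
import Cfsg.Agent.H878.Sz.MainThree

/-!
# Residual cores in dimension eleven: the inputs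
-/

set_option autoImplicit false
set_option linter.unusedSectionVars false
set_option linter.unusedVariables false

namespace Cfsg.Agent.H218.Elev

open Cfsg Cfsg.Geo Matrix Cfsg.Agent.H915.LD Cfsg.Agent.H936.List12 Cfsg.Agent.H912.Bd Cfsg.Agent.H912.Five

universe u

/-- The pieces that are not available yet. -/
structure Rest (F : Type u) [Field F] [Fintype F] (p : ℕ) : Prop where
  m12 : p = 3 → ∀ P : Subgroup (GL (Fin 11) F), Core P → Spor.IsoM12 (Soc P) → SD P

variable {F : Type u} [Field F] [Fintype F]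

/-- `M₂₂` has no projective representation of degree 11. -/
theorem not_m22 (p : ℕ) [hp : Fact p.Prime] [CharP F p] {P : Subgroup (GL (Fin 11) F)} (hC : Core P)
    (h : Spor.IsoM22 (Soc P)) : False := by
  obtain ⟨e⟩ := h
  by_cases h2 : p = 2
  · subst h2
    rcases H921.M22.two e hC (by rw [Fintype.card_fin]; norm_num) with ⟨h, -⟩ | ⟨h, -⟩ | ⟨h, -⟩ <;>
      rw [Fintype.card_fin] at h <;> omega
  · have h1 := hC.scalars_eq_bot e S2036.result (by simp; norm_num)
    have h3 := H921.Spor.M24.M22_two.bd Nat.prime_two (cast_ne (F := F) Nat.prime_two (Ne.symm h2)) _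
      (H4.LDM.Stage.pr_of_core hC e (by rw [h1, Subgroup.card_bot]; exact Nat.coprime_one_left 2))
    rw [Fintype.card_fin] at h3
    omega

/-- `Suz` has no projective representation of degree 11. -/
theorem not_suz (p : ℕ) [hp : Fact p.Prime] [CharP F p] {P : Subgroup (GL (Fin 11) F)} (hC : Core P)
    (h : Spor.IsoSuz (Soc P)) : False := by
  obtain ⟨e⟩ := h
  by_cases h3 : p = 3
  · subst h3
    have := (H878.Sz.core_Suz_three hC e (by rw [Fintype.card_fin]; norm_num)).1
    rw [Fintype.card_fin] at this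
    omega
  · have := (H878.Sz.core_Suz hC e (by rw [Fintype.card_fin]; norm_num) p h3).1
    rw [Fintype.card_fin] at this
    omega

theorem todo (p : ℕ) [hp : Fact p.Prime] [CharP F p] (R : Rest F p) : Todo F p where
  alt P hC m h8 h13 h hL := by
    obtain ⟨e⟩ := h
    by_cases h82 : m = 8 ∧ p = 2
    · obtain ⟨rfl, rfl⟩ := h82
      rcases H614.AMod.Main.alt8_two hC e (by rw [Fintype.card_fin]; norm_num) with h | ⟨-, h⟩
      · rw [Fintype.card_fin] at h
        omega
      · exact h
    · exact (H614.AMod.Main.alt_sd_fr hC p e h8 (by rw [Fintype.card_fin]; norm_num) h82).1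
  l33 P hC h3 h := by
    obtain ⟨K, i1, i2, hK, ⟨e⟩⟩ := h
    exact (H175.L33.l33 hC p h3 hK e (by rw [Fintype.card_fin]; norm_num)).2.1
  u33 P hC h3 h2 h := by
    obtain ⟨K, i1, i2, hK, ⟨e⟩⟩ := h
    rcases (H659.U3.u33_stage hC p h2 h3 (by rw [Fintype.card_fin]; norm_num) (by rw [hK]; norm_num) e).2 with
      ⟨h, -⟩ | ⟨h, -⟩ <;> rw [Fintype.card_fin] at h <;> omega
  sz8 P hC h2 h := by
    have := (H814.Sz8.core_sz8 hC (by exact_mod_cast cast_ne (F := F) Nat.prime_two (Ne.symm h2))
      (by rw [Fintype.card_fin]; norm_num) h).1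
    rw [Fintype.card_fin] at this
    omega
  m12 P hC h := by
    by_cases h3 : p = 3
    · exact R.m12 h3 P hC h
    · exact H6.M11.m12_odd hC p h3 h (by rw [Fintype.card_fin]; norm_num) (Or.inl (by rw [Fintype.card_fin]; decide))
  spor P hC h := by
    rcases spor_split (p := p) (n := 11) (by norm_num) hC h with h | ⟨-, h⟩
    · rcases h with h | h | h | h | h | h | h | h | h
      · exact Or.inl h
      · exact Or.inr (Or.inl h)
      · exact (not_m22 p hC h).elim
      · exact Or.inr (Or.inr (Or.inl h))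
      · exact Or.inr (Or.inr (Or.inr (Or.inl h)))
      · exact Or.inr (Or.inr (Or.inr (Or.inr (H1.TJ1.sd_iso hC h))))
      · exact Or.inr (Or.inr (Or.inr (Or.inr (H1.TJ2.sd_iso hC h (by rw [Fintype.card_fin]; norm_num)))))
      · have := (H95.JT.j3 p hC h (by rw [Fintype.card_fin]; norm_num)).2.1
        rw [Fintype.card_fin] at this
        omega
      · exact (not_suz p hC h).elim
    · exfalso
      rcases h with ⟨⟨e⟩⟩ | ⟨⟨e⟩⟩ | ⟨⟨e⟩⟩ | ⟨⟨e⟩⟩
      · have := H806.Ls.fi22_le hp.out hC e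
        omega
      · have := H806.Ls.fi23_le hp.out hC e
        omega
      · have := H806.Ls.b_le hp.out hC e
        omega
      · have := H806.Ls.m_le hp.out hC e
        omega

/-- `PSU_N(q)` in its own characteristic, `4 ≤ N ≤ 10`, does not occur in dimension 11. -/
theorem not_psu (P : Subgroup (GL (Fin 11) F)) (hC : Core P) (p : ℕ) (hp : p.Prime) (_ : CharP F p) (K : Type)
    (_ : Field K) (_ : Fintype K) (_ : CharP K p) (N q : ℕ) (hK : Fintype.card K = q ^ 2) (h4 : 4 ≤ N) (h10 : N ≤ 10)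
    (h : Nonempty (Soc P ≃* PSU N K q)) : SD P := by
  haveI := Fact.mk hp
  obtain ⟨e⟩ := h
  rcases H876.D3.core_psu p K h4 (by rw [Fintype.card_fin]; norm_num) hK hC e with h | ⟨-, h, -⟩ | ⟨-, h, -⟩ | ⟨-, h⟩ <;>
    rw [Fintype.card_fin] at h <;> omega

end Cfsg.Agent.H218.Elev
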