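import Cfsg.Agent.H905.MdG
import Cfsg.Agent.H905.DCWrap
import Cfsg.Agent.H915.LD
import Cfsg.Agent.KFacts.MulOdd.Shrink

/-!
# Self-dual modules in the defining characteristic, `-1` in the Weyl group (helper218)

`R : RGD cs h p T n X` on `Y`, generated by its root groups, `w ∈ Y` over `-1`; `φ : Y → GL(ι, F)` with absolutely
irreducible image `P`.

* `sd_of` : if for every node `i` either `X_{-i}` fixes `V^U` or `w` inverts the torus of `⟨X_i, X_{-i}⟩` then `SD P`;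
* `InvRGD p G` : `G` has a root group datum with `-1` in the Weyl group inverting the torus; `InvRGD.sd`.
-/

set_option autoImplicit false
set_option linter.unusedSectionVars false
set_option linter.style.haveILetI false

namespace Cfsg.Agent.H218.SdAbs

open CoxeterSystem Cfsg.Agent.ChevalleyStructure.CoxeterGeom Cfsg.Agent.Tits.Roots Cfsg.Agent.Tits.Core
  Cfsg.Agent.Tits.Exchange Cfsg.Agent.Nodes.Reps Cfsg.Agent.Nodes.BNOf Cfsg.Agent.Nodes.StabComb
  Cfsg.Agent.Nodes.Bruhat Cfsg.Agent.Nodes.OppDec Cfsg.Agent.Nodes.LeviDec Cfsg.Agent.KFacts.RgdOpp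
  Cfsg.Agent.Omega.CR Cfsg.Agent.Omega.FOne.Lift.Sd Cfsg.Agent.H911 Cfsg.Agent.Nodes.RGDLib
  Cfsg.Agent.KFacts.MulOdd.Inst Cfsg.Agent.KFacts.MulOdd.Shrink
open Cfsg Cfsg.Geo Cfsg.Agent.H905.Md Cfsg.Agent.H915.LD
open scoped MatrixGroups Matrix

section

variable {I W Y : Type*} [Fintype I] [DecidableEq I] [Group W] [Group Y] {M : CoxeterMatrix I}
  {cs : CoxeterSystem M W} {A : I → I → ℤ} {h : IsCartan M A} {p : ℕ} {T : Subgroup Y} {n : I → Y}
  {X : (I → ℤ) → Subgroup Y} {F : Type*} [Field F] {ι : Type} [Fintype ι] [DecidableEq ι]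
  {P : Subgroup (GL ι F)}

theorem gg_eq_top (hG : G1 cs h X = ⊤) : GG cs h T X = ⊤ := by
  rw [eq_top_iff, ← hG]
  exact le_sup_right

/-- `w` normalises the rank one subgroups. -/
theorem conj_Lv (R : RGD cs h p T n X) {w0 : W} (hw0 : ∀ x, rep cs h w0 x = -x) {w : Y}
    (hw : Rp cs R.nsys w0 w) (i : I) : cj w (Lv X i) = Lv X i := by
  unfold Lv
  rw [cj_sup, R.conj_rp hw (isRoot_sr cs h i), R.conj_rp hw (isRoot_sr cs h i).neg, hw0, hw0, neg_neg, sup_comm]

theorem conj_inv_mem_Lv (R : RGD cs h p T n X) {w0 : W} (hw0 : ∀ x, rep cs h w0 x = -x) {w : Y}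
    (hw : Rp cs R.nsys w0 w) {i : I} {t : Y} (ht : t ∈ Lv X i) : w⁻¹ * t * w ∈ Lv X i := by
  rw [← conj_Lv R hw0 hw i] at ht
  exact mem_cj.1 ht

theorem conj_inv_mem_T (R : RGD cs h p T n X) {w0 : W} {w : Y} (hw : Rp cs R.nsys w0 w) {t : Y} (ht : t ∈ T) :
    w⁻¹ * t * w ∈ T := by
  have h1 := (Subgroup.mem_normalizer_iff.1 (inv_mem hw.mem_normalizer) t).1 ht
  rwa [inv_inv] at h1

variable [Finite Y] [Finite W] [Fact p.Prime] [CharP F p]

/-- the rank one subgroups of `J` fix `V^U` -/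
theorem fix_of_mem_Lv {k V : Type*} [Field k] [AddCommGroup V] [Module k V] {ρ : Y →* Module.End k V} {i : I}
    (hi : i ∈ Jx cs h X ρ) {g : Y} (hg : g ∈ Lv X i) {v : V} (hv : v ∈ D cs h X ρ) : ρ g v = v := by
  let K : Subgroup Y :=
    { carrier := {g | ρ g v = v}
      one_mem' := rho_one ρ _
      mul_mem' := fun {a b} ha hb => by
        change ρ (a * b) v = v
        rw [rho_mul, show ρ b v = v from hb, show ρ a v = v from ha]
      inv_mem' := fun {a} ha => by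
        change ρ a⁻¹ v = v
        conv_lhs => rw [← show ρ a v = v from ha]
        exact rho_inv_rho ρ a v }
  have h1 : Lv X i ≤ K := by
    refine sup_le (fun x hx => ?_) (fun x hx => hi x hx v hv)
    exact hv x (RGD.le_Sup (S := RGD.Pos cs h) ⟨isRoot_sr cs h i, sr_nonneg i⟩ hx)
  exact h1 hg

/-- **Self-dual modules.** -/
theorem sd_of (R : RGD cs h p T n X) (hG : G1 cs h X = ⊤) (hT : ∀ s ∈ T, ∀ t ∈ T, s * t = t * s)
    {φ : Y →* GL ι F} (hφ : φ.range = P) (hP : ActsAbsolutelyIrreducibly (matrixSet P)) [Nonempty ι]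
    {w0 : W} (hw0 : ∀ x, rep cs h w0 x = -x) {w : Y} (hw : Rp cs R.nsys w0 w)
    (hinv : ∀ i, i ∈ Jx cs h X (lin (acRep φ)) ∨ ∀ t ∈ Hv T X i, w⁻¹ * t⁻¹ * w = t) : SD P := by
  have hchar : CharP (AlgebraicClosure F) p := charP_of_injective_algebraMap (algebraMap F _).injective p
  have hGG := gg_eq_top (T := T) hG
  have hirr := ac_irr R hGG hT hφ hP
  obtain ⟨c, hc, hc0, χ, hχ⟩ := exists_chi R hirr hT
  have hmul : ∀ t ∈ T, ∀ t' ∈ T, χ (t * t') = χ t * χ t' := fun t ht t' ht' => chi_mul R (acRep φ) hirr hc hc0 hχ ht ht'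
  have hcj : ∀ t ∈ T, w⁻¹ * t * w ∈ T := fun t ht => conj_inv_mem_T R hw ht
  have h1 : χ 1 = 1 := by
    have h2 := hχ 1 (one_mem T)
    rw [rho_one] at h2
    have h3 : (1 : AlgebraicClosure F) • c = χ 1 • c := by rw [one_smul]; exact h2
    exact (smul_left_injective _ hc0 h3).symm
  -- the subgroup on which the characters agree
  let S : Subgroup Y :=
    { carrier := {t | t ∈ T ∧ χ (w⁻¹ * t⁻¹ * w) = χ t}
      one_mem' := ⟨one_mem T, by rw [inv_one, mul_one, inv_mul_cancel]⟩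
      mul_mem' := fun {a b} ha hb => by
        refine ⟨mul_mem ha.1 hb.1, ?_⟩
        have e : w⁻¹ * (a * b)⁻¹ * w = (w⁻¹ * b⁻¹ * w) * (w⁻¹ * a⁻¹ * w) := by group
        rw [e, hmul _ (hcj _ (inv_mem hb.1)) _ (hcj _ (inv_mem ha.1)), ha.2, hb.2, hmul _ ha.1 _ hb.1, mul_comm]
      inv_mem' := fun {a} ha => by
        refine ⟨inv_mem ha.1, ?_⟩
        have e1 : χ (w⁻¹ * a⁻¹⁻¹ * w) * χ (w⁻¹ * a⁻¹ * w) = 1 := by
          rw [← hmul _ (hcj _ (inv_mem (inv_mem ha.1))) _ (hcj _ (inv_mem ha.1))]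
          rw [show w⁻¹ * a⁻¹⁻¹ * w * (w⁻¹ * a⁻¹ * w) = 1 by group, h1]
        have e2 : χ a⁻¹ * χ a = 1 := by
          rw [← hmul _ (inv_mem ha.1) _ ha.1, inv_mul_cancel, h1]
        rw [ha.2] at e1
        have h3 : χ a ≠ 0 := fun h0 => by rw [h0, mul_zero] at e2; exact zero_ne_one e2
        exact mul_right_cancel₀ h3 (e1.trans e2.symm) }
  have hTS : T ≤ S := by
    refine (torus_le R hG).trans (iSup_le fun i => ?_)
    intro t ht
    have htT : t ∈ T := (Subgroup.mem_inf.1 ht).1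
    refine ⟨htT, ?_⟩
    rcases hinv i with hi | hi
    · have hfix : ∀ t ∈ T, t ∈ Lv X i → χ t = 1 := by
        intro t ht htL
        have h2 := hχ t ht
        rw [fix_of_mem_Lv hi htL hc] at h2
        have h3 : (1 : AlgebraicClosure F) • c = χ t • c := by rw [one_smul]; exact h2
        exact (smul_left_injective _ hc0 h3).symm
      rw [hfix t htT (Subgroup.mem_inf.1 ht).2, hfix _ (hcj _ (inv_mem htT))
        (conj_inv_mem_Lv R hw0 hw (inv_mem (Subgroup.mem_inf.1 ht).2))]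
    · rw [hi t ht]
  intro g hg
  rw [← hφ] at hg
  obtain ⟨y, rfl⟩ := hg
  have h2 := trace_inv R (acRep φ) hirr hc hc0 hχ hw0 hw (RingEquiv.refl _) (fun t ht => (hTS ht).2.symm) (g := y)
    (by rw [hGG]; trivial)
  rw [RingEquiv.refl_apply, trace_acRep, trace_acRep, map_inv] at h2
  exact (algebraMap F (AlgebraicClosure F)).injective h2

end

/-- `G` has a root group datum with `-1` in the Weyl group inverting the torus. -/
def InvRGD (p : ℕ) (G : Type*) [Group G] : Prop :=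
  ∃ (l : ℕ) (M : CoxeterMatrix (Fin l)) (A : Fin l → Fin l → ℤ) (h : IsCartan M A) (T : Subgroup G) (n : Fin l → G)
    (X : (Fin l → ℤ) → Subgroup G) (_ : Finite M.Group) (R : RGD M.toCoxeterSystem h p T n X) (w0 : M.Group) (w : G),
    G1 M.toCoxeterSystem h X = ⊤ ∧ (∀ x, rep M.toCoxeterSystem h w0 x = -x) ∧ Rp M.toCoxeterSystem R.nsys w0 w ∧
    ∀ t ∈ T, w⁻¹ * t⁻¹ * w = t

theorem comm_of_inv {G : Type*} [Group G] {T : Subgroup G} {w : G} (h : ∀ t ∈ T, w⁻¹ * t⁻¹ * w = t) :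
    ∀ s ∈ T, ∀ t ∈ T, s * t = t * s := by
  intro s hs t ht
  have h1 := h _ (mul_mem hs ht)
  have h2 : w⁻¹ * (s * t)⁻¹ * w = (w⁻¹ * t⁻¹ * w) * (w⁻¹ * s⁻¹ * w) := by group
  rw [h2, h t ht, h s hs] at h1
  exact h1.symm

/-- **Self-dual modules of a simple group.** -/
theorem InvRGD.sd {G : Type*} [Group G] [Finite G] {p : ℕ} [Fact p.Prime] (hG : InvRGD p G) {F : Type*} [Field F]
    [CharP F p] {ι : Type} [Fintype ι] [DecidableEq ι] [Nonempty ι] {P : Subgroup (GL ι F)} {φ : G →* GL ι F}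
    (hφ : φ.range = P) (hP : ActsAbsolutelyIrreducibly (matrixSet P)) : SD P := by
  obtain ⟨l, M, A, h, T, n, X, hW, R, w0, w, hG1, hw0, hw, hinv⟩ := hG
  exact sd_of R hG1 (comm_of_inv hinv) hφ hP hw0 hw (fun i => Or.inr fun t ht => hinv t (Subgroup.mem_inf.1 ht).1)

end Cfsg.Agent.H218.SdAbs
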