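import Cfsg.Agent.H218.SdQuot
import Cfsg.Agent.Nodes.WittInst

/-!
# The torus is inverted by `-1`: Witt frames of type `C_n` (helper218)

* `sw ω` : the action of a word on signed indices; `exists_neg_word` : a word acting as `ng`; `rep_neg`;
* `exists_rp_mono` : a representative of a word is monomial;
* `inv_of_V0` : `w⁻¹ t⁻¹ w = t` if this holds on `V0` (no field automorphism);
* `hasInv_model` : inversion data for a model `K` of a Witt frame;
* `hasInv_PSp`, `hasInv_PO_odd`, `hasInv_PO_minus` (the nodes `i`, `i + 1 < m`).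
-/

set_option autoImplicit false
set_option linter.unusedSectionVars false
set_option linter.style.haveILetI false

namespace Cfsg.Agent.H218.SdC

open CoxeterSystem Cfsg.Agent.ChevalleyStructure.CoxeterGeom Cfsg.Agent.Tits.Roots Cfsg.Agent.Nodes.TypeC
open Cfsg.Agent.Nodes.Comb Cfsg.Agent.Nodes.Reps Cfsg.Agent.Nodes.WittRoot Cfsg.Agent.Nodes.BNOf
open Cfsg.Agent.Nodes.WittRGD (Tor mem_Tor nn mono_nn)
open Cfsg.Agent.Nodes.RGDLib Cfsg.Agent.Nodes.WittAll
open Cfsg.Agent.TitsThree Cfsg.Agent.TitsThree.Siegel Cfsg.Agent.TitsThree.WittFrame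
  Cfsg.Agent.TitsThree.WittWeyl Cfsg.Agent.TitsThree.FrameCN
open Cfsg.Agent.KFacts.MulOdd.Inst (Lv)
open Cfsg.Agent.H218.SdAbs Cfsg.Agent.H218.SdQuot

/-! ### words -/

section comb

variable {n : ℕ}

/-- the action of a word on signed indices -/
def sw (ω : List (Fin n)) (x : Fin n × Bool) : Fin n × Bool := ω.foldr sg x

theorem sw_nil (x : Fin n × Bool) : sw [] x = x := rfl

theorem sw_cons (i : Fin n) (ω : List (Fin n)) (x : Fin n × Bool) : sw (i :: ω) x = sg i (sw ω x) := rfl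

theorem sw_append (ω ω' : List (Fin n)) (x : Fin n × Bool) : sw (ω ++ ω') x = sw ω (sw ω' x) := by
  simp [sw, List.foldr_append]

theorem ee_word {W : Type*} [Group W] (cs : CoxeterSystem (CoxeterMatrix.B n) W) (ω : List (Fin n))
    {x : Fin n → ℤ} {a b : Fin n × Bool} (h : ee x = wt a + wt b) :
    ee (rep cs (isCartan n) (cs.wordProd ω) x) = wt (sw ω a) + wt (sw ω b) := by
  induction ω with
  | nil => rw [wordProd_nil, map_one, Module.End.one_apply]; exact h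
  | cons i ω ih => rw [wordProd_cons, rep_mul_apply, rep_simple, ee_refl_of ih]; rfl

/-- a word flipping one index -/
theorem exists_flip (d : ℕ) : ∀ i : Fin n, (i : ℕ) + d + 1 = n →
    ∃ ω : List (Fin n), ∀ x, sw ω x = if x.1 = i then ng x else x := by
  induction d with
  | zero =>
    intro i hi
    refine ⟨[i], fun x => ?_⟩
    rw [sw_cons, sw_nil]
    obtain ⟨j, s⟩ := x
    by_cases hj : j = i
    · subst hj
      rw [sg_last (by omega), if_pos rfl]
      rfl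
    · rw [sg_of_ne hj (by have := j.2; simp only; omega), if_neg hj]
  | succ d ih =>
    intro i hi
    have hi' : (i : ℕ) + 1 < n := by omega
    obtain ⟨ω, hω⟩ := ih ⟨i + 1, hi'⟩ (by simp only; omega)
    refine ⟨i :: (ω ++ [i]), fun x => ?_⟩
    rw [sw_cons, sw_append, sw_cons, sw_nil, hω]
    obtain ⟨j, s⟩ := x
    by_cases hj : j = i
    · subst hj
      rw [sg_up hi', if_pos rfl, if_pos rfl]
      exact sg_down hi' _
    · by_cases hj' : j = ⟨i + 1, hi'⟩
      · subst hj'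
        have h1 : ¬ (i = (⟨(i : ℕ) + 1, hi'⟩ : Fin n)) := fun h => by
          have := congrArg Fin.val h
          simp only at this
          omega
        rw [sg_down hi', if_neg h1, sg_up hi', if_neg hj]
      · have e : sg i (j, s) = (j, s) := sg_of_ne hj (fun h => hj' (Fin.ext h))
        rw [e, if_neg hj', e, if_neg hj]

theorem exists_flips (l : List (Fin n)) (hl : l.Nodup) :
    ∃ ω : List (Fin n), ∀ x, sw ω x = if x.1 ∈ l then ng x else x := by
  induction l with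
  | nil => exact ⟨[], fun x => by simp [sw_nil]⟩
  | cons i l ih =>
    obtain ⟨ω, hω⟩ := ih (List.nodup_cons.1 hl).2
    obtain ⟨ω', hω'⟩ := exists_flip (n - i - 1) i (by have := i.2; omega)
    refine ⟨ω' ++ ω, fun x => ?_⟩
    rw [sw_append, hω, hω']
    have hi := (List.nodup_cons.1 hl).1
    by_cases h1 : x.1 = i
    · have h2 : x.1 ∉ l := h1 ▸ hi
      rw [if_neg h2, if_pos h1, if_pos (List.mem_cons.2 (Or.inl h1))]
    · by_cases h2 : x.1 ∈ l
      · rw [if_pos h2, ng_fst, if_neg h1, if_pos (List.mem_cons_of_mem _ h2)]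
      · rw [if_neg h2, if_neg h1, if_neg (fun h => (List.mem_cons.1 h).elim h1 h2)]

theorem exists_neg_word (n : ℕ) : ∃ ω : List (Fin n), ∀ x, sw ω x = ng x := by
  obtain ⟨ω, hω⟩ := exists_flips (List.finRange n) (List.nodup_finRange n)
  exact ⟨ω, fun x => by rw [hω, if_pos (List.mem_finRange _)]⟩

theorem rep_neg {W : Type*} [Group W] (cs : CoxeterSystem (CoxeterMatrix.B n) W) {ω : List (Fin n)}
    (hω : ∀ x, sw ω x = ng x) (x : Fin n → ℤ) : rep cs (isCartan n) (cs.wordProd ω) x = -x := by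
  have h1 : ∀ i, rep cs (isCartan n) (cs.wordProd ω) (sr i) = -sr i := by
    intro i
    apply ee_injective
    rw [ee_word cs ω (a := (i, true)) (b := nx i) (ee_sr i), hω, hω, ee_neg, ee_sr, bt, wt_ng, wt_ng]
    abel
  have h2 : x = ∑ k, x k • sr k := by
    funext k
    simp [sr, Finset.sum_apply, Pi.single_apply]
  conv_lhs => rw [h2]
  conv_rhs => rw [h2]
  rw [map_sum, ← Finset.sum_neg_distrib]
  exact Finset.sum_congr rfl fun k _ => by rw [map_smul, h1, smul_neg]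

end comb

/-! ### frames -/

section frame

variable {F : Type*} [Field F] {V : Type*} [AddCommGroup V] [Module F V] {H : HForm F V} {n : ℕ}
  {Fr : Frame H (Fin n)} {G0 : Subgroup (V ≃ₗ[F] V)}

/-- An element fixing the frame and `V0` is trivial. -/
theorem eq_one_of_fix (hV : ∀ v, (∀ x, H.h v (Fr.b x) = 0) → v ∈ Fr.V0) {g : V ≃ₗ[F] V}
    (hb : ∀ x, g (Fr.b x) = Fr.b x) (h0 : ∀ w ∈ Fr.V0, g w = w) : g = 1 := by
  ext v
  set u : V := ∑ x, (H.h v (Fr.b (neg x)) * (Fr.η (neg x))⁻¹) • Fr.b x with hu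
  have h1 : v - u ∈ Fr.V0 := by
    apply hV
    intro y
    rw [H.sub_left, sub_eq_zero]
    have h2 : H.h u (Fr.b y) = ∑ x, (H.h v (Fr.b (neg x)) * (Fr.η (neg x))⁻¹) * H.h (Fr.b x) (Fr.b y) := by
      rw [hu]
      have : ∀ (s : Finset (Fin n × Bool)) (f : Fin n × Bool → F), H.h (∑ x ∈ s, f x • Fr.b x) (Fr.b y) =
          ∑ x ∈ s, f x * H.h (Fr.b x) (Fr.b y) := by
        intro s f
        induction s using Finset.induction_on with
        | empty => simp [H.zero_left]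
        | insert a s ha ih => rw [Finset.sum_insert ha, Finset.sum_insert ha, H.add_left, H.smul_left, ih]
      exact this _ _
    rw [h2, Finset.sum_eq_single (neg y)]
    · rw [WittFrame.neg_neg, Fr.hb_neg_self]
      have := Fr.η_ne y
      field_simp
    · intro x _ hx
      rw [Fr.hb_ne, mul_zero]
      rintro rfl
      exact hx (WittFrame.neg_neg x).symm
    · intro h; exact absurd (Finset.mem_univ _) h
  have h2 : g u = u := by
    rw [hu, map_sum]
    exact Finset.sum_congr rfl fun x _ => by rw [map_smul, hb]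
  have h3 : v = (v - u) + u := by abel
  show g v = v
  rw [h3, map_add, h0 _ h1, h2]

/-- the action of the torus and of an element with `w b_x = l b_{-x}` -/
theorem inv_b' (hσ : ∀ c, H.σ c = c) {t w : V ≃ₗ[F] V} (hti : H.IsIso t) (ht : Mono Fr t id)
    {x : Fin n × Bool} {l : F} (hl : l ≠ 0) (el : w (Fr.b x) = l • Fr.b (ng x)) :
    (w⁻¹ * t⁻¹ * w) (Fr.b x) = t (Fr.b x) := by
  obtain ⟨c, hc, ec⟩ := ht x
  obtain ⟨d, hd, ed⟩ := ht (ng x)
  have h1 : c * d = 1 := by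
    have h2 := hti (Fr.b x) (Fr.b (ng x))
    rw [ec, ed] at h2
    change H.h (c • Fr.b x) (d • Fr.b (ng x)) = _ at h2
    rw [H.smul_left, H.smul_right, hσ] at h2
    have h3 : H.h (Fr.b x) (Fr.b (ng x)) ≠ 0 := by
      have h4 := Fr.hb_self_neg x
      have h5 : H.h (Fr.b x) (Fr.b (ng x)) = Fr.η (ng x) := h4
      rw [h5]; exact Fr.η_ne (ng x)
    have h6 : c * (d * H.h (Fr.b x) (Fr.b (ng x))) = 1 * H.h (Fr.b x) (Fr.b (ng x)) := by rw [one_mul]; exact h2
    rw [← mul_assoc] at h6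
    exact mul_right_cancel₀ h3 h6
  have h2 : t⁻¹ (Fr.b (ng x)) = c • Fr.b (ng x) := by
    have h3 : t (c • Fr.b (ng x)) = Fr.b (ng x) := by
      rw [map_smul, ed]
      change c • d • Fr.b (ng x) = _
      rw [smul_smul, h1, one_smul]
    conv_lhs => rw [← h3]
    exact t.symm_apply_apply _
  have h3 : w⁻¹ (Fr.b (ng x)) = l⁻¹ • Fr.b x := by
    have h4 : w (l⁻¹ • Fr.b x) = Fr.b (ng x) := by
      rw [map_smul, el, smul_smul, inv_mul_cancel₀ hl, one_smul]
    conv_lhs => rw [← h4]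
    exact w.symm_apply_apply _
  change w⁻¹ (t⁻¹ (w (Fr.b x))) = t (Fr.b x)
  rw [el, map_smul, h2, map_smul, map_smul, h3, smul_smul, smul_smul, ec]
  change _ = c • Fr.b x
  congr 1
  field_simp

/-- the action of the torus and of a representative of `-1` on the frame -/
theorem inv_b (hσ : ∀ c, H.σ c = c) {t w : V ≃ₗ[F] V} (hti : H.IsIso t) (ht : Mono Fr t id) (hw : Mono Fr w ng)
    (x : Fin n × Bool) : (w⁻¹ * t⁻¹ * w) (Fr.b x) = t (Fr.b x) := by
  obtain ⟨l, hl, el⟩ := hw x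
  exact inv_b' hσ hti ht hl el

theorem inv_of_V0 (hV : ∀ v, (∀ x, H.h v (Fr.b x) = 0) → v ∈ Fr.V0) (hσ : ∀ c, H.σ c = c) {t w : V ≃ₗ[F] V}
    (hti : H.IsIso t) (ht : Mono Fr t id) (hw : Mono Fr w ng)
    (h0 : ∀ v ∈ Fr.V0, (w⁻¹ * t⁻¹ * w) v = t v) : w⁻¹ * t⁻¹ * w = t := by
  have h1 : t⁻¹ * (w⁻¹ * t⁻¹ * w) = 1 := by
    apply eq_one_of_fix hV
    · intro x
      change t⁻¹ ((w⁻¹ * t⁻¹ * w) (Fr.b x)) = _
      rw [inv_b hσ hti ht hw]
      exact t.symm_apply_apply _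
    · intro v hv
      change t⁻¹ ((w⁻¹ * t⁻¹ * w) v) = _
      rw [h0 v hv]
      exact t.symm_apply_apply _
  exact (eq_of_inv_mul_eq_one h1).symm

variable {K : Type*} [Group K] (M : Model Fr K) {p : ℕ}

/-- a representative of a word -/
theorem exists_rp_mono (hA : AmbT Fr p M.I) [Finite V] [Fact p.Prime] [CharP F p] {p0 : Fr.Adm} (hp0 : p0.c ≠ 0)
    {W : Type*} [Group W] (cs : CoxeterSystem (CoxeterMatrix.B n) W) (ω : List (Fin n)) :
    ∃ k : M.I, Rp cs (rgdC_model M hA hp0 cs).nsys (cs.wordProd ω) (M.φ k) ∧ Mono Fr k.1 (sw ω) := by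
  induction ω with
  | nil => exact ⟨1, by rw [wordProd_nil, map_one]; exact rp_one, Mono.one⟩
  | cons i ω ih =>
    obtain ⟨k, hk, hm⟩ := ih
    refine ⟨⟨nn Fr p0 i, Nodes.WittAll.nn_mem hA p0 i⟩ * k, ?_, (mono_nn hp0 i).mul hm⟩
    rw [wordProd_cons, map_mul]
    exact (rp_simple cs (rgdC_model M hA hp0 cs).nsys i).mul hk

theorem exists_neg_rp (hA : AmbT Fr p M.I) [Finite V] [Fact p.Prime] [CharP F p] {p0 : Fr.Adm} (hp0 : p0.c ≠ 0)
    {W : Type*} [Group W] (cs : CoxeterSystem (CoxeterMatrix.B n) W) :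
    ∃ (w0 : W) (k : M.I), (∀ x, rep cs (isCartan n) w0 x = -x) ∧
      Rp cs (rgdC_model M hA hp0 cs).nsys w0 (M.φ k) ∧ Mono Fr k.1 ng := by
  obtain ⟨ω, hω⟩ := exists_neg_word n
  obtain ⟨k, hk, hm⟩ := exists_rp_mono M hA hp0 cs ω
  exact ⟨_, k, rep_neg cs hω, hk, hm.congr hω⟩

/-- `t` acts on `V0` as `± 1` -/
def Vs (Fr : Frame H (Fin n)) (t : V ≃ₗ[F] V) : Prop := ∃ a : F, a * a = 1 ∧ ∀ v ∈ Fr.V0, t v = a • v

theorem fix_V0_of_rg {i : Fin n} (hi : (i : ℕ) + 1 < n) {g : V ≃ₗ[F] V}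
    (hg : g ∈ Nodes.WittRoot.rg Fr (sr i) ⊔ Nodes.WittRoot.rg Fr (-sr i)) {v : V} (hv : v ∈ Fr.V0) : g v = v := by
  have hne : ((i, true) : Fin n × Bool).1 ≠ (nx i).1 := by
    unfold nx
    rw [dif_pos hi]
    intro h
    have := congrArg Fin.val h
    simp only at this
    omega
  let K : Subgroup (V ≃ₗ[F] V) :=
    { carrier := {g | g v = v}
      one_mem' := rfl
      mul_mem' := fun {a b} ha hb => by
        change a (b v) = v
        rw [show b v = v from hb, show a v = v from ha]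
      inv_mem' := fun {a} ha => by
        change a.symm v = v
        rw [LinearEquiv.symm_apply_eq]
        exact (show a v = v from ha).symm }
  have h1 : Nodes.WittRoot.rg Fr (sr i) ⊔ Nodes.WittRoot.rg Fr (-sr i) ≤ K := by
    refine sup_le ?_ ?_
    · rw [Nodes.WittRGD.rg_sr, PG_ne Fr hne]
      rintro _ ⟨t, rfl⟩
      exact X_apply_V0 Fr hne hv t
    · rw [Nodes.WittRGD.rg_neg_sr, PG_ne Fr (a := ng (i, true)) (b := ng (nx i)) hne]
      rintro _ ⟨t, rfl⟩
      exact X_apply_V0 Fr (x := ng (i, true)) (y := ng (nx i)) hne hv t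
  exact h1 hg

/-- a homothety which is an isometry -/
theorem vs_of_ker [Nontrivial V] (hn : 0 < n) (hσ : ∀ c, H.σ c = c) (hA : AmbT Fr p M.I) {c : M.I} (hc : M.φ c = 1) :
    ∃ a : F, a * a = 1 ∧ ∀ v, c.1 v = a • v := by
  have h1 : ∀ v, ∃ a : F, c.1 v = a • v := fun v => M.ker v c hc
  obtain ⟨a, ha⟩ := h1 (Fr.b (⟨0, hn⟩, true))
  have hb0 : Fr.b (⟨0, hn⟩, true) ≠ 0 := by
    intro h0
    have h2 := Fr.hb_self_neg (⟨0, hn⟩, true)
    rw [h0, H.zero_left] at h2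
    exact Fr.η_ne _ h2.symm
  have hall : ∀ v, c.1 v = a • v := by
    intro v
    by_cases hv : ∃ m : F, v = m • Fr.b (⟨0, hn⟩, true)
    · obtain ⟨m, rfl⟩ := hv
      rw [map_smul, ha, smul_comm]
    · obtain ⟨d, hd⟩ := h1 v
      obtain ⟨e, he⟩ := h1 (v + Fr.b (⟨0, hn⟩, true))
      rw [map_add, ha, hd, smul_add] at he
      have h3 : (d - e) • v = (e - a) • Fr.b (⟨0, hn⟩, true) := by
        rw [sub_smul, sub_smul, ← sub_eq_zero]
        rw [← sub_eq_zero] at he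
        rw [← he]; abel
      by_cases hde : d = e
      · subst hde
        rw [sub_self, zero_smul] at h3
        rcases smul_eq_zero.1 h3.symm with h4 | h4
        · rw [hd, sub_eq_zero.1 h4]
        · exact absurd h4 hb0
      · exfalso
        apply hv
        refine ⟨(d - e)⁻¹ * (e - a), ?_⟩
        rw [mul_smul, ← h3, smul_smul, inv_mul_cancel₀ (sub_ne_zero.2 hde), one_smul]
  refine ⟨a, ?_, hall⟩
  have h2 := hA.iso c.1 c.2 (Fr.b (⟨0, hn⟩, true)) (Fr.b (neg (⟨0, hn⟩, true)))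
  rw [hall, hall, H.smul_left, H.smul_right, hσ, Fr.hb_self_neg] at h2
  have h3 : (a * a) * Fr.η (neg (⟨0, hn⟩, true)) = 1 * Fr.η (neg (⟨0, hn⟩, true)) := by
    rw [one_mul, mul_assoc]; exact h2
  exact mul_right_cancel₀ (Fr.η_ne _) h3

/-- **Models in which `-1` inverts the tori of nodes.** -/
theorem hasInv_model (hA : AmbT Fr p M.I) [Finite V] [Fact p.Prime] [CharP F p] {p0 : Fr.Adm} (hp0 : p0.c ≠ 0)
    (hn : 0 < n) (hσ : ∀ c, H.σ c = c) (B : Set (Fin n))
    (hB : ∀ i ∈ B, (i : ℕ) + 1 < n ∨ ∀ t ∈ M.I, Mono Fr t id → Vs Fr t) :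
    HasInv p (CoxeterMatrix.B n) (A n) (isCartan n) id B K := by
  have hW : Finite (CoxeterMatrix.B n).Group := finite_W (CoxeterMatrix.B n).toCoxeterSystem
  obtain ⟨w0, k, hw0, hk, hm⟩ := exists_neg_rp M hA hp0 (CoxeterMatrix.B n).toCoxeterSystem
  have hVn : Nontrivial V := by
    refine ⟨Fr.b (⟨0, hn⟩, true), 0, fun h0 => ?_⟩
    have h2 := Fr.hb_self_neg (⟨0, hn⟩, true)
    rw [h0, H.zero_left] at h2
    exact Fr.η_ne _ h2.symm
  refine ⟨_, _, _, hW, rgdC_model M hA hp0 _, w0, M.φ k,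
    Nodes.WittModel.G1_eq_top _ hn _, fun i => hw0 _, hk, ?_⟩
  intro i hi t' ht' htL
  obtain ⟨t, ht, rfl⟩ := ht'
  have ht2 : t.1 ∈ Tor Fr M.I := Subgroup.mem_subgroupOf.1 ht
  have hVs : Vs Fr t.1 := by
    rcases hB i hi with h1 | h1
    · -- `t = g c`
      have h2 : M.φ t ∈ (((Nodes.WittRoot.rg Fr (sr i)).subgroupOf M.I ⊔ (Nodes.WittRoot.rg Fr (-sr i)).subgroupOf M.I)).map M.φ := by
        rw [Subgroup.map_sup]
        exact htL
      obtain ⟨g, hg, e⟩ := h2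
      have h3 : M.φ (g⁻¹ * t) = 1 := by rw [map_mul, map_inv, e, inv_mul_cancel]
      obtain ⟨a, ha, h4⟩ := vs_of_ker M hn hσ hA h3
      refine ⟨a, ha, fun v hv => ?_⟩
      have h5 : g.1 ∈ Nodes.WittRoot.rg Fr (sr i) ⊔ Nodes.WittRoot.rg Fr (-sr i) := by
        have h6 : (Nodes.WittRoot.rg Fr (sr i)).subgroupOf M.I ⊔ (Nodes.WittRoot.rg Fr (-sr i)).subgroupOf M.I ≤
            (Nodes.WittRoot.rg Fr (sr i) ⊔ Nodes.WittRoot.rg Fr (-sr i)).subgroupOf M.I :=
          sup_le (Subgroup.comap_mono le_sup_left) (Subgroup.comap_mono le_sup_right)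
        exact Subgroup.mem_subgroupOf.1 (h6 hg)
      have h7 : t.1 v = g.1 ((g⁻¹ * t).1 v) := by
        change t.1 v = g.1 (g.1⁻¹ (t.1 v))
        exact (g.1.apply_symm_apply _).symm
      rw [h7, h4, map_smul, fix_V0_of_rg h1 h5 hv]
    · exact h1 t.1 t.2 ht2.2
  obtain ⟨a, ha, hav⟩ := hVs
  have ha0 : a ≠ 0 := fun h0 => by rw [h0, zero_mul] at ha; exact zero_ne_one ha
  constructor
  · rw [← map_inv, ← map_inv, ← map_mul, ← map_mul]
    congr 1
    apply Subtype.ext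
    refine inv_of_V0 hA.V0 hσ (hA.iso t.1 t.2) ht2.2 hm fun v hv => ?_
    have hwV : k.1 v ∈ Fr.V0 := hA.map_V0 k.2 hm (ρ := ng) ng_ng hv
    have h1 : t.1⁻¹ (k.1 v) = a • k.1 v := by
      have h4 : t.1 (a • k.1 v) = k.1 v := by rw [map_smul, hav _ hwV, smul_smul, ha, one_smul]
      conv_lhs => rw [← h4]
      exact t.1.symm_apply_apply _
    change k.1⁻¹ (t.1⁻¹ (k.1 v)) = t.1 v
    rw [h1, map_smul, hav v hv]
    congr 1
    exact k.1.symm_apply_apply _
  · rintro _ ⟨s, hs, rfl⟩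
    have hs2 : s.1 ∈ Tor Fr M.I := Subgroup.mem_subgroupOf.1 hs
    rw [← map_mul, ← map_mul]
    congr 1
    apply Subtype.ext
    have h1 : (t.1 * s.1)⁻¹ * (s.1 * t.1) = 1 := by
      have h0 : ∀ v, (t.1 * s.1) v = (s.1 * t.1) v → ((t.1 * s.1)⁻¹ * (s.1 * t.1)) v = v := by
        intro v hv
        change (t.1 * s.1)⁻¹ ((s.1 * t.1) v) = v
        rw [← hv]
        exact (t.1 * s.1).symm_apply_apply v
      refine eq_one_of_fix hA.V0 (fun x => h0 _ ?_) (fun v hv => h0 _ ?_)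
      · obtain ⟨c, -, ec⟩ := ht2.2 x
        obtain ⟨d, -, ed⟩ := hs2.2 x
        change t.1 (s.1 (Fr.b x)) = s.1 (t.1 (Fr.b x))
        rw [ed, ec, map_smul, map_smul]
        change d • t.1 (Fr.b x) = c • s.1 (Fr.b x)
        rw [ec, ed]
        exact smul_comm _ _ _
      · have hsV : s.1 v ∈ Fr.V0 := hA.map_V0 s.2 hs2.2 (ρ := id) (fun _ => rfl) hv
        change t.1 (s.1 v) = s.1 (t.1 v)
        rw [hav _ hsV, hav v hv, map_smul]
    exact (eq_of_inv_mul_eq_one h1).symm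

end frame

/-! ### symplectic groups -/

section Sp

variable {F : Type*} [Field F] [Finite F] {m : ℕ}

open Cfsg.Agent.TitsThree.SpIdent

theorem vs_bot {H : HForm F (Fin m ⊕ Fin m → F)} {Fr : Frame H (Fin m)} (hV : Fr.V0 = ⊥)
    (t : (Fin m ⊕ Fin m → F) ≃ₗ[F] (Fin m ⊕ Fin m → F)) : Vs Fr t :=
  ⟨1, one_mul 1, fun v hv => by rw [hV, Submodule.mem_bot] at hv; rw [hv, map_zero, smul_zero]⟩

theorem hasInv_PSp (hm : 1 ≤ m) {p : ℕ} [Fact p.Prime] [CharP F p] :
    HasInv p (CoxeterMatrix.B m) (A m) (isCartan m) id Set.univ (Cfsg.PSp m F) :=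
  hasInv_model (KInstSp.model m F) (AmbT.of_amb Nodes.WittU.amb_Sp p) (p0 := SpIdent.adm 1) one_ne_zero hm
    (fun _ => rfl) _ fun _ _ => Or.inr fun t _ _ => vs_bot rfl t

end Sp

/-! ### orthogonal groups in odd dimension -/

section Odd

open QuadraticMap
open Cfsg Cfsg.Agent.Nodes.WittInst Cfsg.Agent.TitsThree.SiegelGen Cfsg.Agent.TitsThree.WBridge
open Cfsg.Agent.LieClassical Cfsg.Agent.LieClassical.OrthCore Cfsg.Agent.LieClassical.OrthTrans
open Cfsg.Agent.LieClassical.OrthSimple Cfsg.Agent.LieClassical.OrthFinite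
open Cfsg.Agent.LieClassical.OrthForms
open Cfsg.Agent.TitsThree.KSideO Cfsg.Agent.TitsThree.StdData

variable {F : Type*} [Field F] [Finite F] {m : ℕ}

theorem mem_wodd_V0 {v : Unit ⊕ (Fin m ⊕ Fin m) → F} : v ∈ (wodd m F).V0 ↔ ∀ j, v (Sum.inr j) = 0 := Iff.rfl

/-- an isometry preserving the line `V0` acts on it as `± 1` -/
theorem sign_of_line {g : (Unit ⊕ (Fin m ⊕ Fin m) → F) ≃ₗ[F] (Unit ⊕ (Fin m ⊕ Fin m) → F)}
    (hg : g ∈ O (oddForm m F)) (hV : ∀ v ∈ (wodd m F).V0, g v ∈ (wodd m F).V0) :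
    ∃ s : F, s * s = 1 ∧ ∀ v ∈ (wodd m F).V0, g v = s • v := by
  have hd : (Pi.single (Sum.inl ()) 1 : Unit ⊕ (Fin m ⊕ Fin m) → F) ∈ (wodd m F).V0 := fun j => by simp
  set d : Unit ⊕ (Fin m ⊕ Fin m) → F := Pi.single (Sum.inl ()) 1 with hddef
  have hsp : ∀ v ∈ (wodd m F).V0, v = v (Sum.inl ()) • d := by
    intro v hv
    have hv' : ∀ j, v (Sum.inr j) = 0 := hv
    funext j
    rcases j with ⟨⟩ | j
    · simp [hddef]
    · rw [hv' j]
      simp [hddef]
  obtain ⟨s, hs⟩ : ∃ s : F, g d = s • d := ⟨_, hsp _ (hV d hd)⟩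
  have hQd : oddForm m F d = 1 := by
    rw [coe_oddForm, quadFormOdd_apply]
    simp [hddef]
  refine ⟨s, ?_, fun v hv => ?_⟩
  · have h1 : oddForm m F (g d) = oddForm m F d := mem_O.1 hg d
    rw [hs, QuadraticMap.map_smul, hQd, smul_eq_mul, mul_one] at h1
    exact h1
  · rw [hsp v hv, map_smul, hs, smul_comm]

theorem hasInv_PO_odd (h2 : (2 : F) ≠ 0) (hm : 2 ≤ m) {p : ℕ} [Fact p.Prime] [CharP F p] :
    HasInv p (CoxeterMatrix.B m) (A m) (isCartan m) id Set.univ (Cfsg.POmega F (Cfsg.quadFormOdd m F)) := by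
  rw [← coe_oddForm]
  have hG : Good (oddForm m F) := by
    apply good_of_finite (nondeg_oddForm m F h2)
    rw [Module.finrank_fintype_fun_eq_card, Fintype.card_sum, Fintype.card_sum, Fintype.card_fin,
      Fintype.card_unit]
    omega
  have hp : ((embOdd m F).ngt ⟨1, -1 ^ 2, rfl⟩).c ≠ 0 := by
    change (1 : F)⁻¹ * (-1 ^ 2) ≠ 0
    simp
  have hA : AmbT (toFrame (wodd m F)) p (E (oddForm m F)) := AmbT.of_amb (amb_O_of_two _ h2) p
  refine hasInv_model (model (wodd m F) hG ⟨_, hp⟩) hA hp (by omega) (fun _ => rfl) _ fun _ _ => Or.inr fun t ht htm => ?_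
  have htV : ∀ v ∈ (wodd m F).V0, t v ∈ (wodd m F).V0 := fun v hv => hA.map_V0 ht htm (ρ := id) (fun _ => rfl) hv
  obtain ⟨s, hs, h1⟩ := sign_of_line (E_le_O ht) htV
  exact ⟨s, hs, h1⟩

/-- minus type: the nodes `i`, `i + 1 < m` -/
theorem hasInv_PO_minus {a b : F} (hab : ∀ z₁ z₂ : F, z₁ ^ 2 + a * z₁ * z₂ + b * z₂ ^ 2 = 0 → z₁ = 0 ∧ z₂ = 0)
    (hm : 2 ≤ m) {p : ℕ} [Fact p.Prime] [CharP F p] :
    HasInv p (CoxeterMatrix.B m) (A m) (isCartan m) id {i | (i : ℕ) + 1 < m}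
      (Cfsg.POmega F (Cfsg.quadFormMinus m F a b)) := by
  rw [← coe_minusForm]
  have hG : Good (minusForm m F a b) := by
    apply good_of_finite (nondeg_minusForm m F a b hab)
    rw [Module.finrank_fintype_fun_eq_card, Fintype.card_sum, Fintype.card_sum, Fintype.card_fin,
      Fintype.card_fin]
    omega
  have hp : ((embMinus m F a b hab).ngt ⟨(1, 0), -nf a b (1, 0), rfl⟩).c ≠ 0 := by
    change (1 : F)⁻¹ * (-nf a b (1, 0)) ≠ 0
    simp [nf]
  have hA : AmbT (toFrame (wminus m F a b hab)) p (E (minusForm m F a b)) := by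
    by_cases h2 : (2 : F) = 0
    · have hp2 : p = 2 := by
        have h3 : CharP F 2 := CharTwo.of_one_ne_zero_of_two_eq_zero one_ne_zero h2
        exact CharP.eq F ‹CharP F p› h3
      subst hp2
      exact ambT_O _ fun g hg hg2 hb => fixp_minus a b hab h2 hm hG hg hg2 hb
    · exact AmbT.of_amb (amb_O_of_two _ h2) p
  exact hasInv_model (model (wminus m F a b hab) hG ⟨_, hp⟩) hA hp (by omega) (fun _ => rfl) _ fun i hi => Or.inl hi

end Odd

end Cfsg.Agent.H218.SdC
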