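import Cfsg.Agent.H218.SdSpin
import Cfsg.Agent.H218.SdC

/-!
# Self-dual modules: relative type `B_3` (helper218)

* `exists_m` : a representative of `s_i` in `⟨X_i, X_{-i}⟩`; `exists_mr` : the same for all roots;
* `comm_Lr` : the rank one subgroups of strongly orthogonal roots commute;
* `sd_spin` : `J = {0, 1}`, `|ι| ≤ 12`: `SD P`;
* `sd_B3` : `SD P` if `P/scalars` has inversion data of type `B_3` for the nodes `0, 1` and `|ι| ≤ 12`.
-/

set_option autoImplicit false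
set_option linter.unusedSectionVars false
set_option linter.style.haveILetI false

namespace Cfsg.Agent.H218.SdB3

open CoxeterSystem Cfsg.Agent.ChevalleyStructure.CoxeterGeom Cfsg.Agent.Tits.Roots Cfsg.Agent.Tits.Core
  Cfsg.Agent.Tits.Exchange Cfsg.Agent.Nodes.Reps Cfsg.Agent.Nodes.BNOf Cfsg.Agent.Nodes.StabComb
  Cfsg.Agent.Nodes.Bruhat Cfsg.Agent.Nodes.OppDec Cfsg.Agent.Nodes.LeviDec Cfsg.Agent.KFacts.RgdOpp
  Cfsg.Agent.Omega.CR Cfsg.Agent.Omega.FOne.Lift.Sd Cfsg.Agent.H911 Cfsg.Agent.Nodes.RGDLib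
  Cfsg.Agent.KFacts.MulOdd.Inst Cfsg.Agent.KFacts.MulOdd.Shrink
open Cfsg Cfsg.Geo Cfsg.Agent.H905.Md Cfsg.Agent.H905.DC Cfsg.Agent.H915.LD Cfsg.Agent.H218.SdAbs Cfsg.Agent.H218.SdLift
open Cfsg.Agent.H218.SdQuot Cfsg.Agent.H218.SdSpin
open scoped MatrixGroups Matrix commutatorElement

section general

variable {I W Y : Type*} [Fintype I] [DecidableEq I] [Group W] [Group Y] {M : CoxeterMatrix I}
  {cs : CoxeterSystem M W} {A : I → I → ℤ} {h : IsCartan M A} {p : ℕ} {T : Subgroup Y} {n : I → Y}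
  {X : (I → ℤ) → Subgroup Y} [Finite Y] [Finite W] [Fact p.Prime]

theorem exists_m (R : RGD cs h p T n X) (i : I) : ∃ m ∈ Lv X i, Rp cs R.nsys (cs.simple i) m := by
  obtain ⟨u, hu, hu1⟩ := (X (-sr i)).bot_or_exists_ne_one.resolve_left (X_ne_bot R (isRoot_sr cs h i).neg)
  obtain ⟨a, ha, t, ht, b, hb, e⟩ := R.rk1 i u hu hu1
  have h1 : t * n i = a⁻¹ * u * b⁻¹ := by rw [e]; group
  refine ⟨t * n i, ?_, ?_⟩
  · rw [h1]
    have h2 : X (sr i) ≤ Lv X i := le_sup_left
    have h3 : X (-sr i) ≤ Lv X i := le_sup_right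
    exact mul_mem (mul_mem (inv_mem (h2 ha)) (h3 hu)) (inv_mem (h2 hb))
  · have h2 := (rp_of_mem (cs := cs) (hN := R.nsys) ht).mul (rp_simple cs R.nsys i)
    rwa [one_mul] at h2

theorem exists_mr (R : RGD cs h p T n X) (v : W) (i : I) :
    ∃ m ∈ Lr X (rep cs h v (sr i)), Rp cs R.nsys (v * cs.simple i * v⁻¹) m := by
  obtain ⟨m, hm, hm'⟩ := exists_m R i
  obtain ⟨g, hg⟩ := exists_rp cs R.nsys v
  refine ⟨g * m * g⁻¹, ?_, (hg.mul hm').mul hg.inv⟩
  rw [← conj_Lr R hg (isRoot_sr cs h i)]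
  exact conj_mem_cj.2 hm

/-- strongly orthogonal roots -/
def SOrth (cs : CoxeterSystem M W) (h : IsCartan M A) (x y : I → ℤ) : Prop :=
  x ≠ y ∧ x ≠ -y ∧ ∀ z, IsRoot cs h z → ∀ m a b : ℤ, m ≠ 0 → a ≠ 0 → b ≠ 0 → m • z ≠ a • x + b • y

theorem comm_Lr (R : RGD cs h p T n X) {x y : I → ℤ} (hx : IsRoot cs h x) (hy : IsRoot cs h y)
    (hxy : SOrth cs h x y) {g g' : Y} (hg : g ∈ Lr X x) (hg' : g' ∈ Lr X y) : g * g' = g' * g := by
  have key : ∀ x' y' : I → ℤ, (x' = x ∨ x' = -x) → (y' = y ∨ y' = -y) → ∀ a ∈ X x', ∀ b ∈ X y', a * b = b * a := by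
    intro x' y' hx' hy' a ha b hb
    have hrx : IsRoot cs h x' := by
      rcases hx' with rfl | rfl
      · exact hx
      · exact hx.neg
    have hry : IsRoot cs h y' := by
      rcases hy' with rfl | rfl
      · exact hy
      · exact hy.neg
    have h1 : x' ≠ y' := by
      rcases hx' with rfl | rfl <;> rcases hy' with rfl | rfl
      · exact hxy.1
      · exact hxy.2.1
      · exact fun e => hxy.2.1 (neg_eq_iff_eq_neg.1 e)
      · exact fun e => hxy.1 (neg_injective e)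
    have h2 : x' ≠ -y' := by
      rcases hx' with rfl | rfl <;> rcases hy' with rfl | rfl
      · exact hxy.2.1
      · rw [neg_neg]; exact hxy.1
      · exact fun e => hxy.1 (neg_injective e)
      · rw [neg_neg]; exact fun e => hxy.2.1 (neg_eq_iff_eq_neg.1 e)
    have h3 := R.comm x' y' hrx hry h1 h2 a ha b hb
    have h4 : Nodes.Reps.btw cs h X x' y' = ⊥ := by
      unfold Nodes.Reps.btw
      rw [iSup_eq_bot]
      rintro ⟨z, hz, m, c, d, hm, hc, hd, e⟩
      exfalso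
      rcases hx' with rfl | rfl <;> rcases hy' with rfl | rfl
      · exact hxy.2.2 z hz m c d hm.ne' hc.ne' hd.ne' e
      · exact hxy.2.2 z hz m c (-d) hm.ne' hc.ne' (neg_ne_zero.2 hd.ne') (by rw [e]; module)
      · exact hxy.2.2 z hz m (-c) d hm.ne' (neg_ne_zero.2 hc.ne') hd.ne' (by rw [e]; module)
      · exact hxy.2.2 z hz m (-c) (-d) hm.ne' (neg_ne_zero.2 hc.ne') (neg_ne_zero.2 hd.ne') (by rw [e]; module)
    rw [h4, Subgroup.mem_bot, commutatorElement_eq_one_iff_mul_comm] at h3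
    exact h3
  have h1 : Lr X x ≤ Subgroup.centralizer (Lr X y : Set Y) := by
    have h2 : ∀ x' : I → ℤ, (x' = x ∨ x' = -x) → X x' ≤ Subgroup.centralizer (Lr X y : Set Y) := by
      intro x' hx' a ha
      have h3 : Lr X y ≤ Subgroup.centralizer ({a} : Set Y) := by
        refine sup_le ?_ ?_
        · intro b hb
          rw [Subgroup.mem_centralizer_iff]
          rintro _ rfl
          exact key x' y hx' (Or.inl rfl) _ ha b hb
        · intro b hb
          rw [Subgroup.mem_centralizer_iff]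
          rintro _ rfl
          exact key x' (-y) hx' (Or.inr rfl) _ ha b hb
      rw [Subgroup.mem_centralizer_iff]
      intro b hb
      exact (Subgroup.mem_centralizer_iff.1 (h3 hb) a rfl).symm
    exact sup_le (h2 x (Or.inl rfl)) (h2 (-x) (Or.inr rfl))
  exact (Subgroup.mem_centralizer_iff.1 (h1 hg) g' hg').symm

end general

/-! ### combinatorics of `B_3` -/

section comb

open Cfsg.Agent.Nodes.TypeC Cfsg.Agent.H218.SdC

variable {W : Type*} [Group W] (cs : CoxeterSystem (CoxeterMatrix.B 3) W)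

theorem ee_x1 : ee (sr (0 : Fin 3)) = ![1, -1, 0] := by
  rw [ee_sr]
  decide +kernel

theorem ee_y : ee (sr (2 : Fin 3)) = ![0, 0, 2] := by
  rw [ee_sr]
  decide +kernel

theorem ee_x2 : ee (rep cs (isCartan 3) (cs.wordProd [1, 2, 1]) (sr 0)) = ![1, 1, 0] := by
  rw [ee_word cs [1, 2, 1] (a := (0, true)) (b := nx 0) (ee_sr 0)]
  decide +kernel

theorem sorth_of {x : Fin 3 → ℤ} {s : ℤ} (hs : s ≠ 0) (hx : ee x = ![1, s, 0]) :
    SOrth cs (isCartan 3) x (sr 2) := by
  refine ⟨?_, ?_, ?_⟩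
  · rintro rfl
    rw [ee_y] at hx
    exact absurd (congrFun hx 0) (by simp)
  · rintro rfl
    rw [ee_neg, ee_y] at hx
    exact absurd (congrFun hx 0) (by simp)
  · intro z hz m a b hm ha hb e
    obtain ⟨α, β, -, ez⟩ := exists_of_isRoot cs hz
    have h1 := congrArg ee e
    rw [ee_smul, ee_add, ee_smul, ee_smul, ez, hx, ee_y] at h1
    obtain ⟨k, hk1, hk2⟩ : ∃ k : Fin 3, k ≠ α.1 ∧ k ≠ β.1 := by
      generalize α.1 = i
      generalize β.1 = j
      revert i j
      decide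
    have h2 := congrFun h1 k
    rw [Pi.smul_apply, Pi.add_apply, wt_apply, wt_apply, if_neg hk1, if_neg hk2, add_zero, smul_zero] at h2
    fin_cases k
    · simp at h2
      exact ha h2.symm
    · simp at h2
      rcases h2 with h2 | h2
      · exact ha h2
      · exact hs h2
    · simp at h2
      exact hb h2

theorem rep_w03 (x : Fin 3 → ℤ) : rep cs (isCartan 3) (cs.wordProd [2, 0, 1, 2, 1, 0, 1, 2, 1]) x = -x :=
  rep_neg cs (by decide +kernel) x

end comb

/-! ### the spin case -/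

section spin

open Cfsg.Agent.Nodes.TypeC Cfsg.Agent.H218.SdC

variable {W Y : Type*} [Group W] [Group Y] {cs : CoxeterSystem (CoxeterMatrix.B 3) W} {p : ℕ} {T : Subgroup Y}
  {n : Fin 3 → Y} {X : (Fin 3 → ℤ) → Subgroup Y} [Finite Y] [Finite W] [Fact p.Prime]

/-- the edges -/
def edg : Fin 5 → List (Fin 3) := ![[], [1, 2, 1], [0, 1, 2, 1, 0], [0, 1, 2, 1, 0, 1, 2, 1], [2, 1]]

theorem not_sameEdge {J : Set (Fin 3)} (h2 : (2 : Fin 3) ∉ J) {a b : Fin 5} (hab : a ≠ b) :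
    ¬ SameEdge cs (isCartan 3) J (cs.wordProd (edg a)) 2 (cs.wordProd (edg b)) 2 := by
  rintro (⟨-, h3⟩ | ⟨h3, -⟩)
  · have h4 := co_mul_left cs (isCartan 3) h2 h3 (cs.wordProd (edg b))⁻¹
    rw [mul_inv_cancel_right, ← cs.wordProd_reverse, ← cs.wordProd_reverse, co_wordProd, co_wordProd] at h4
    have key : ∀ a b : Fin 5, a ≠ b → cf (A 3) 2 (edg a).reverse ≠ cf (A 3) 2 (edg b).reverse := by decide +kernel
    exact key a b hab h4
  · have h4 := congrArg ee h3
    rw [ee_neg, ee_word cs (edg a) (a := (2, true)) (b := nx 2) (ee_sr 2),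
      ee_word cs (edg b) (a := (2, true)) (b := nx 2) (ee_sr 2)] at h4
    have key : ∀ a b : Fin 5, wt (sw (edg a) (2, true)) + wt (sw (edg a) (nx 2)) ≠
        -(wt (sw (edg b) (2, true)) + wt (sw (edg b) (nx 2))) := by decide +kernel
    exact key a b h4

section dims

variable {k V : Type*} [Field k] [CharP k p] [AddCommGroup V] [Module k V] [FiniteDimensional k V] [Nontrivial V]
  {ρ : Y →* Module.End k V}

theorem dims (R : RGD cs (isCartan 3) p T n X)
    (hirr : ∀ L : Submodule k V, Ivt ρ (GG cs (isCartan 3) T X) L → L = ⊥ ∨ L = ⊤)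
    (h2 : (2 : Fin 3) ∉ Jx cs (isCartan 3) X ρ) (hn : Module.finrank k V ≤ 12) :
    Module.finrank k (D cs (isCartan 3) X ρ) = 1 ∧ Module.finrank k (Le cs (isCartan 3) T X ρ {2}) ≤ 2 := by
  classical
  have hF : Fintype (W ⧸ WJ cs (Jx cs (isCartan 3) X ρ)) := Fintype.ofFinite _
  have h1 := dim_ge R hirr (fun a : W ⧸ WJ cs (Jx cs (isCartan 3) X ρ) => a.out) (fun a a' haa hm => haa (by
    have h2 := QuotientGroup.eq.2 hm
    rwa [QuotientGroup.out_eq', QuotientGroup.out_eq'] at h2)) (fun b : Fin 5 => cs.wordProd (edg b))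
    (fun _ => (2 : Fin 3)) (fun b b' hbb => not_sameEdge h2 hbb)
  have h4 : D cs (isCartan 3) X ρ ≠ ⊥ := (simp_fx R ρ hirr).ne
  have h5 : 1 ≤ Module.finrank k (D cs (isCartan 3) X ρ) := Submodule.one_le_finrank_iff.2 h4
  have h6 : 8 ≤ Fintype.card (W ⧸ WJ cs (Jx cs (isCartan 3) X ρ)) := by
    rw [← Nat.card_eq_fintype_card]
    exact length_le_index cs isCartan_cB3 h2 [[], [2], [2, 1], [2, 1, 0], [2, 1, 2], [2, 1, 0, 2], [2, 1, 0, 2, 1],
      [2, 1, 0, 2, 1, 2]] (by decide +kernel)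
  have h7 := finrank_Io R hirr (2 : Fin 3)
  rw [Finset.sum_const, Finset.card_univ, Fintype.card_fin, smul_eq_mul] at h1
  have h8 : 8 * Module.finrank k (D cs (isCartan 3) X ρ) ≤
      Fintype.card (W ⧸ WJ cs (Jx cs (isCartan 3) X ρ)) * Module.finrank k (D cs (isCartan 3) X ρ) :=
    Nat.mul_le_mul_right _ h6
  omega

end dims

section main

variable {F : Type*} [Field F] [CharP F p] {ι : Type} [Fintype ι] [DecidableEq ι] {P : Subgroup (GL ι F)}

/-- **The spin node.** -/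
theorem sd_spin (R : RGD cs (isCartan 3) p T n X) (hG : G1 cs (isCartan 3) X = ⊤)
    {φ : Y →* GL ι F} (hφ : φ.range = P)
    (hP : ActsAbsolutelyIrreducibly (matrixSet P)) [Nonempty ι]
    (h2 : (2 : Fin 3) ∉ Jx cs (isCartan 3) X (lin (acRep φ)))
    (hJ : ∀ i, i ≠ 2 → i ∈ Jx cs (isCartan 3) X (lin (acRep φ))) (hn : Fintype.card ι ≤ 12) : SD P := by
  have hchar : CharP (AlgebraicClosure F) p := charP_of_injective_algebraMap (algebraMap F _).injective p
  have hGG := gg_eq_top (T := T) hG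
  have hirr : ∀ L : Submodule (AlgebraicClosure F) (ι → AlgebraicClosure F),
      Ivt (lin (acRep φ)) (GG cs (isCartan 3) T X) L → L = ⊥ ∨ L = ⊤ := fun L hL =>
    acRep_irr hφ (H920.span_eq_top hP) hGG L hL
  obtain ⟨hD, hE⟩ := dims R hirr h2 (by rw [Module.finrank_fintype_fun_eq_card]; exact hn)
  obtain ⟨m, hmL, hm⟩ := exists_m R 2
  obtain ⟨m1, hm1L, hm1⟩ := exists_m R 0
  obtain ⟨m2, hm2L, hm2⟩ := exists_mr R (cs.wordProd [1, 2, 1]) 0
  have hw0 : cs.wordProd [2, 0, 1, 2, 1, 0, 1, 2, 1] = cs.simple 2 * (cs.simple 0 *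
      (cs.wordProd [1, 2, 1] * cs.simple 0 * (cs.wordProd [1, 2, 1])⁻¹)) := by
    rw [← cs.wordProd_reverse]
    simp only [wordProd_cons, wordProd_nil, List.reverse_cons, List.reverse_nil, List.nil_append, List.cons_append,
      mul_one, mul_assoc]
  have hs1 := sorth_of cs (s := -1) (by norm_num) ee_x1
  have hs2 := sorth_of cs (s := 1) one_ne_zero (ee_x2 cs)
  refine sd_edge R hG hφ hP h2 hJ hD hE (rep_w03 cs) (m := m) (u := m1 * m2) ?_ hm hmL ?_
  · rw [hw0]
    exact hm.mul (hm1.mul hm2)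
  · intro g hg
    have e1 : m1 * g = g * m1 := comm_Lr R (isRoot_sr cs (isCartan 3) 0) (isRoot_sr cs (isCartan 3) 2) hs1 hm1L hg
    have e2 : m2 * g = g * m2 := comm_Lr R ((isRoot_sr cs (isCartan 3) 0).act _) (isRoot_sr cs (isCartan 3) 2) hs2 hm2L hg
    rw [mul_assoc, e2, ← mul_assoc, e1, mul_assoc]

end main

end spin

end Cfsg.Agent.H218.SdB3
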