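import Cfsg.Agent.H218.SdC

/-!
# Inversion data of `PΩ⁺` (type `D`) (helper218)

* `swD ω` : the action of a word on signed indices, `rep_swD`;
* `hasInv_D` : inversion data for `PΩ` of a hyperbolic Witt frame;
* `hasInv_PO_plus_four/five/six`.
-/

set_option autoImplicit false
set_option linter.unusedSectionVars false
set_option linter.style.haveILetI false

namespace Cfsg.Agent.H218.SdD

open CoxeterSystem Cfsg.Agent.ChevalleyStructure.CoxeterGeom Cfsg.Agent.Tits.Roots
open Cfsg.Agent.Nodes.TypeC (wt ng ng_ng ng_fst wt_ng)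
open Cfsg.Agent.Nodes.TypeD
open Cfsg.Agent.Nodes.Comb Cfsg.Agent.Nodes.Reps Cfsg.Agent.Nodes.WittRoot Cfsg.Agent.Nodes.BNOf
open Cfsg.Agent.Nodes.WittRGD (Tor mem_Tor)
open Cfsg.Agent.Nodes.RGDLib Cfsg.Agent.Nodes.WittAll
open Cfsg.Agent.TitsThree Cfsg.Agent.TitsThree.Siegel Cfsg.Agent.TitsThree.WittFrame
  Cfsg.Agent.TitsThree.WittWeyl Cfsg.Agent.TitsThree.FrameCN
open Cfsg.Agent.KFacts.MulOdd.Inst (Lv)
open Cfsg.Agent.H218.SdAbs Cfsg.Agent.H218.SdQuot

section comb

variable {n : ℕ}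

/-- the action of a word on signed indices -/
def swD (ω : List (Fin (n + 2))) (x : Fin (n + 2) × Bool) : Fin (n + 2) × Bool := ω.foldr Nodes.TypeD.sg x

theorem swD_nil (x : Fin (n + 2) × Bool) : swD [] x = x := rfl

theorem swD_cons (i : Fin (n + 2)) (ω : List (Fin (n + 2))) (x : Fin (n + 2) × Bool) :
    swD (i :: ω) x = Nodes.TypeD.sg i (swD ω x) := rfl

theorem ee_word {W : Type*} [Group W] (cs : CoxeterSystem (M n) W) (ω : List (Fin (n + 2)))
    {x : Fin (n + 2) → ℤ} {a b : Fin (n + 2) × Bool} (h : ee x = wt a + wt b) :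
    ee (rep cs (isCartan n) (cs.wordProd ω) x) = wt (swD ω a) + wt (swD ω b) := by
  induction ω with
  | nil => rw [wordProd_nil, map_one, Module.End.one_apply]; exact h
  | cons i ω ih => rw [wordProd_cons, rep_mul_apply, rep_simple, ee_refl_of ih]; rfl

theorem rep_swD {W : Type*} [Group W] (cs : CoxeterSystem (M n) W) {ω : List (Fin (n + 2))}
    {σ : Fin (n + 2) → Fin (n + 2)} (hω : ∀ i, wt (swD ω (i, true)) + wt (swD ω (nx i)) = -bt (σ i))
    (i : Fin (n + 2)) : rep cs (isCartan n) (cs.wordProd ω) (sr i) = -sr (σ i) := by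
  apply ee_injective
  rw [ee_word cs ω (a := (i, true)) (b := nx i) (ee_sr i), hω, ee_neg, ee_sr]

end comb

section frame

variable {F : Type*} [Field F] {V : Type*} [AddCommGroup V] [Module F V] {H : HForm F V} {n : ℕ}
  {Fr : Frame H (Fin (n + 2))} {G0 : Subgroup (V ≃ₗ[F] V)}

/-- the root groups of `± α_i` fix the other frame vectors -/
theorem fix_b_of_rg {i : Fin (n + 2)} {g : V ≃ₗ[F] V}
    (hg : g ∈ Nodes.WittRGDD.rg Fr (sr i) ⊔ Nodes.WittRGDD.rg Fr (-sr i)) {x : Fin (n + 2) × Bool} (h1 : x.1 ≠ i)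
    (h2 : x.1 ≠ (nx i).1) : g (Fr.b x) = Fr.b x := by
  have hne : ((i, true) : Fin (n + 2) × Bool).1 ≠ (nx i).1 := ok_nx i
  let K : Subgroup (V ≃ₗ[F] V) :=
    { carrier := {g | g (Fr.b x) = Fr.b x}
      one_mem' := rfl
      mul_mem' := fun {a b} ha hb => by
        change a (b (Fr.b x)) = Fr.b x
        rw [show b (Fr.b x) = Fr.b x from hb, show a (Fr.b x) = Fr.b x from ha]
      inv_mem' := fun {a} ha => by
        change a.symm (Fr.b x) = Fr.b x
        rw [LinearEquiv.symm_apply_eq]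
        exact (show a (Fr.b x) = Fr.b x from ha).symm }
  have h1 : Nodes.WittRGDD.rg Fr (sr i) ⊔ Nodes.WittRGDD.rg Fr (-sr i) ≤ K := by
    refine sup_le ?_ ?_
    · rw [Nodes.WittRGDD.rg_sr]
      rintro _ ⟨t, rfl⟩
      have e1 : x ≠ neg (i, true) := fun h => by
        have h3 := congrArg Prod.fst h
        exact h1 h3
      have e2 : x ≠ neg (nx i) := fun h => by
        have h3 := congrArg Prod.fst h
        exact h2 h3
      exact X_apply_of_ne Fr hne e1 e2 t
    · rw [Nodes.WittRGDD.rg_neg_sr]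
      rintro _ ⟨t, rfl⟩
      have e1 : x ≠ neg (ng (i, true)) := fun h => by
        have h3 := congrArg Prod.fst h
        exact h1 h3
      have e2 : x ≠ neg (ng (nx i)) := fun h => by
        have h3 := congrArg Prod.fst h
        exact h2 h3
      exact X_apply_of_ne Fr (x := ng (nx i)) (y := ng (i, true)) hne.symm e2 e1 t
  exact h1 hg

end frame

section PO

open QuadraticMap
open Cfsg Cfsg.Agent.Nodes.WittInst Cfsg.Agent.TitsThree.SiegelGen Cfsg.Agent.TitsThree.WBridge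
open Cfsg.Agent.LieClassical Cfsg.Agent.LieClassical.OrthCore Cfsg.Agent.LieClassical.OrthTrans
open Cfsg.Agent.LieClassical.OrthSimple Cfsg.Agent.LieClassical.OrthFinite
open Cfsg.Agent.LieClassical.OrthForms
open Cfsg.Agent.TitsThree.KSideO Cfsg.Agent.TitsThree.StdData

variable {ι : Type} [Fintype ι] [DecidableEq ι] {F : Type*} [Field F] [Finite F] {Q : QuadraticForm F (ι → F)} {n : ℕ}
  (W : WFrame (PO Q) (n + 2))

theorem hasInv_D (hG : Good Q) (hA : Amb (toFrame W) (E Q)) (h0 : ∀ p : (toFrame W).Adm, p = 1) {p : ℕ}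
    [Fact p.Prime] [CharP F p] (hV0 : W.V0 = ⊥) (ω : List (Fin (n + 2))) (σ : Fin (n + 2) → Fin (n + 2))
    (hω : ∀ i, wt (swD ω (i, true)) + wt (swD ω (nx i)) = -bt (σ i)) (B : Set (Fin (n + 2)))
    (hB : ∀ i ∈ B, ∀ x, swD ω x = ng x ∨ (swD ω x = x ∧ x.1 ≠ i ∧ x.1 ≠ (nx i).1)) :
    HasInv p (M n) (A n) (isCartan n) σ B (Cfsg.POmega F ⇑Q) := by
  have hW : Finite (M n).Group := finite_W (M n).toCoxeterSystem
  have hfin : Finite ((ι → F) ≃ₗ[F] (ι → F)) :=
    Finite.of_injective (fun g : (ι → F) ≃ₗ[F] (ι → F) => (g : (ι → F) → (ι → F))) DFunLike.coe_injective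
  set cs := (M n).toCoxeterSystem with hcs
  set φ := toPOmega hG with hφ
  have R := rgdD_model W hG hA h0 (p := p) cs
  -- representatives
  have key : ∀ ω : List (Fin (n + 2)), ∃ k : E Q, Rp cs R.nsys (cs.wordProd ω) (φ k) ∧
      Mono (toFrame W) k.1 (swD ω) := by
    intro ω
    induction ω with
    | nil => exact ⟨1, by rw [wordProd_nil, map_one]; exact rp_one, Mono.one⟩
    | cons i ω ih =>
      obtain ⟨k, hk, hm⟩ := ih
      refine ⟨⟨Nodes.WittRGDD.nn (toFrame W) i, Nodes.WittRGDD.nn_mem hA i⟩ * k, ?_, (Nodes.WittRGDD.mono_nn i).mul hm⟩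
      rw [wordProd_cons, map_mul]
      exact (rp_simple cs R.nsys i).mul hk
  obtain ⟨k, hk, hm⟩ := key ω
  have hiso : ∀ g ∈ E Q, (HO Q).IsIso g := fun g hg v w => polar_map (E_le_O hg) v w
  have hV0m : ∀ v, (∀ x, (HO Q).h v ((toFrame W).b x) = 0) → v ∈ (toFrame W).V0 := hA.V0
  have hfix0 : ∀ g : (ι → F) ≃ₗ[F] (ι → F), ∀ v ∈ (toFrame W).V0, g v = v := by
    intro g v hv
    have hv' : v ∈ W.V0 := hv
    rw [hV0, Submodule.mem_bot] at hv'
    rw [hv', map_zero]
  refine ⟨_, _, _, hW, R, cs.wordProd ω, φ k, G1D_eq_top W φ (toPOmega_surjective hG) h0 cs,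
    fun i => rep_swD cs hω i, hk, ?_⟩
  intro i hi t' ht' htL
  obtain ⟨t, ht, rfl⟩ := ht'
  have ht2 : t.1 ∈ Tor (toFrame W) (E Q) := Subgroup.mem_subgroupOf.1 ht
  -- `t = g c`
  have h2 : φ t ∈ (((Nodes.WittRGDD.rg (toFrame W) (sr i)).subgroupOf (E Q) ⊔
      (Nodes.WittRGDD.rg (toFrame W) (-sr i)).subgroupOf (E Q))).map φ := by
    rw [Subgroup.map_sup]
    exact htL
  obtain ⟨g, hg, e⟩ := h2
  have h3 : φ (g⁻¹ * t) = 1 := by rw [map_mul, map_inv, e, inv_mul_cancel]
  obtain ⟨a, h4⟩ := scalar_of_center hG (center_of_toPOmega hG h3)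
  have ha : a * a = 1 := by
    have h5 := hiso (g⁻¹ * t).1 (g⁻¹ * t).2 ((toFrame W).b (0, true)) ((toFrame W).b (neg (0, true)))
    rw [h4, h4, (HO Q).smul_left, (HO Q).smul_right, (toFrame W).hb_self_neg] at h5
    have h6 : (a * a) * (toFrame W).η (0, true) = 1 * (toFrame W).η (0, true) := by
      rw [one_mul, mul_assoc]; exact h5
    exact mul_right_cancel₀ ((toFrame W).η_ne _) h6
  have h5 : g.1 ∈ Nodes.WittRGDD.rg (toFrame W) (sr i) ⊔ Nodes.WittRGDD.rg (toFrame W) (-sr i) := by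
    have h6 : (Nodes.WittRGDD.rg (toFrame W) (sr i)).subgroupOf (E Q) ⊔ (Nodes.WittRGDD.rg (toFrame W) (-sr i)).subgroupOf (E Q) ≤
        (Nodes.WittRGDD.rg (toFrame W) (sr i) ⊔ Nodes.WittRGDD.rg (toFrame W) (-sr i)).subgroupOf (E Q) :=
      sup_le (Subgroup.comap_mono le_sup_left) (Subgroup.comap_mono le_sup_right)
    exact Subgroup.mem_subgroupOf.1 (h6 hg)
  have htb : ∀ x : Fin (n + 2) × Bool, x.1 ≠ i → x.1 ≠ (nx i).1 → t.1 ((toFrame W).b x) = a • (toFrame W).b x := by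
    intro x hx1 hx2
    have h7 : t.1 ((toFrame W).b x) = g.1 ((g⁻¹ * t).1 ((toFrame W).b x)) := by
      change t.1 ((toFrame W).b x) = g.1 (g.1⁻¹ (t.1 ((toFrame W).b x)))
      exact (g.1.apply_symm_apply _).symm
    rw [h7, h4, map_smul, fix_b_of_rg h5 hx1 hx2]
  constructor
  · rw [← map_inv, ← map_inv, ← map_mul, ← map_mul]
    congr 1
    apply Subtype.ext
    have h8 : t.1⁻¹ * (k.1⁻¹ * t.1⁻¹ * k.1) = 1 := by
      apply SdC.eq_one_of_fix hV0m
      · intro x
        have h9 : (k.1⁻¹ * t.1⁻¹ * k.1) ((toFrame W).b x) = t.1 ((toFrame W).b x) := by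
          rcases hB i hi x with h10 | ⟨h10, h11, h12⟩
          · obtain ⟨l, hl, el⟩ := hm x
            rw [h10] at el
            exact SdC.inv_b' (fun _ => rfl) (hiso t.1 t.2) ht2.2 hl el
          · obtain ⟨l, hl, el⟩ := hm x
            rw [h10] at el
            have h13 : t.1⁻¹ ((toFrame W).b x) = a • (toFrame W).b x := by
              have h14 : t.1 (a • (toFrame W).b x) = (toFrame W).b x := by
                rw [map_smul, htb x h11 h12, smul_smul, ha, one_smul]
              conv_lhs => rw [← h14]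
              exact t.1.symm_apply_apply _
            have h15 : k.1⁻¹ ((toFrame W).b x) = l⁻¹ • (toFrame W).b x := by
              have h16 : k.1 (l⁻¹ • (toFrame W).b x) = (toFrame W).b x := by
                rw [map_smul, el, smul_smul, inv_mul_cancel₀ hl, one_smul]
              conv_lhs => rw [← h16]
              exact k.1.symm_apply_apply _
            change k.1⁻¹ (t.1⁻¹ (k.1 ((toFrame W).b x))) = _
            rw [el, map_smul, h13, map_smul, map_smul, h15, htb x h11 h12, smul_smul, smul_smul]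
            congr 1
            field_simp
        change t.1⁻¹ ((k.1⁻¹ * t.1⁻¹ * k.1) ((toFrame W).b x)) = _
        rw [h9]
        exact t.1.symm_apply_apply _
      · exact fun v hv => hfix0 _ v hv
    exact (eq_of_inv_mul_eq_one h8).symm
  · rintro _ ⟨s, hs, rfl⟩
    have hs2 : s.1 ∈ Tor (toFrame W) (E Q) := Subgroup.mem_subgroupOf.1 hs
    rw [← map_mul, ← map_mul]
    congr 1
    apply Subtype.ext
    have h1 : (t.1 * s.1)⁻¹ * (s.1 * t.1) = 1 := by
      refine SdC.eq_one_of_fix hV0m (fun x => ?_) (fun v hv => hfix0 _ v hv)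
      obtain ⟨c, -, ec⟩ := ht2.2 x
      obtain ⟨d, -, ed⟩ := hs2.2 x
      have h2 : (t.1 * s.1) ((toFrame W).b x) = (s.1 * t.1) ((toFrame W).b x) := by
        change t.1 (s.1 ((toFrame W).b x)) = s.1 (t.1 ((toFrame W).b x))
        rw [ed, ec, map_smul, map_smul]
        change d • t.1 ((toFrame W).b x) = c • s.1 ((toFrame W).b x)
        rw [ec, ed]
        exact smul_comm _ _ _
      change (t.1 * s.1)⁻¹ ((s.1 * t.1) ((toFrame W).b x)) = _
      rw [← h2]
      exact (t.1 * s.1).symm_apply_apply _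
    exact (eq_of_inv_mul_eq_one h1).symm

/-- `PΩ⁺_8` -/
theorem hasInv_PO_plus_four {p : ℕ} [Fact p.Prime] [CharP F p] :
    HasInv p (M 2) (A 2) (isCartan 2) id Set.univ (Cfsg.POmega F (Cfsg.quadFormPlus 4 F)) := by
  rw [← coe_plusForm]
  have hG : Good (plusForm 4 F) := by
    apply good_of_finite (nondeg_plusForm 4 F)
    rw [Module.finrank_fintype_fun_eq_card, Fintype.card_sum, Fintype.card_fin]
    omega
  exact hasInv_D (wplus 4 F) hG (amb_plus _) (adm_plus _) rfl [0, 1, 2, 3, 0, 1, 2, 3, 0, 1, 2, 3] id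
    (by decide +kernel) _ (fun i _ x => Or.inl (by revert x; decide +kernel))

/-- `PΩ⁺_{12}` -/
theorem hasInv_PO_plus_six {p : ℕ} [Fact p.Prime] [CharP F p] :
    HasInv p (M 4) (A 4) (isCartan 4) id Set.univ (Cfsg.POmega F (Cfsg.quadFormPlus 6 F)) := by
  rw [← coe_plusForm]
  have hG : Good (plusForm 6 F) := by
    apply good_of_finite (nondeg_plusForm 6 F)
    rw [Module.finrank_fintype_fun_eq_card, Fintype.card_sum, Fintype.card_fin]
    omega
  exact hasInv_D (wplus 6 F) hG (amb_plus _) (adm_plus _) rfl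
    [0, 1, 2, 3, 4, 5, 0, 1, 2, 3, 4, 5, 0, 1, 2, 3, 4, 5, 0, 1, 2, 3, 4, 5, 0, 1, 2, 3, 4, 5] id
    (by decide +kernel) _ (fun i _ x => Or.inl (by revert x; decide +kernel))

/-- the exchange of the last two nodes of `D_5` -/
def σ5 : Fin 5 → Fin 5 := ![0, 1, 2, 4, 3]

/-- `PΩ⁺_{10}` -/
theorem hasInv_PO_plus_five {p : ℕ} [Fact p.Prime] [CharP F p] :
    HasInv p (M 3) (A 3) (isCartan 3) σ5 {0} (Cfsg.POmega F (Cfsg.quadFormPlus 5 F)) := by
  rw [← coe_plusForm]
  have hG : Good (plusForm 5 F) := by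
    apply good_of_finite (nondeg_plusForm 5 F)
    rw [Module.finrank_fintype_fun_eq_card, Fintype.card_sum, Fintype.card_fin]
    omega
  refine hasInv_D (wplus 5 F) hG (amb_plus _) (adm_plus _) rfl
    [0, 1, 2, 3, 4, 0, 1, 2, 3, 4, 0, 1, 2, 3, 4, 0, 1, 2, 3, 4] σ5 (by decide +kernel) _ ?_
  rintro i rfl
  decide +kernel

end PO

end Cfsg.Agent.H218.SdD
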