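import Cfsg.Agent.H218.SdB3
import Cfsg.Agent.H218.SdD

/-!
# Self-dual modules of the symplectic and orthogonal groups in their own characteristic, dimension `≤ 12` (helper218)

`P ≤ GL(ι, F)`, `Core P`, `|ι| ≤ 12`, `P/scalars ≃ T` in characteristic `p = char F`:

* `sd_B3` : relative type `B_3` (inversion on the nodes `0, 1`);
* `sd_PO_odd` : `T = PΩ_{2m+1}(K)`, `3 ≤ m`, `2m ≤ |ι|`, `K` odd;
* `sd_PO_minus` : `T = PΩ⁻_{2m+2}(K)`, `3 ≤ m`, `2m ≤ |ι|`;
* `sd_PO_plus` : `T = PΩ⁺_{2m}(K)`, `4 ≤ m`, `2m ≤ |ι|`.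
-/

set_option autoImplicit false
set_option linter.unusedSectionVars false
set_option linter.style.haveILetI false

namespace Cfsg.Agent.H218.SdFin

open CoxeterSystem Cfsg.Agent.ChevalleyStructure.CoxeterGeom Cfsg.Agent.Tits.Roots Cfsg.Agent.Tits.Core
  Cfsg.Agent.Tits.Exchange Cfsg.Agent.Nodes.Reps Cfsg.Agent.Nodes.BNOf Cfsg.Agent.Nodes.StabComb
  Cfsg.Agent.Nodes.Bruhat Cfsg.Agent.Nodes.OppDec Cfsg.Agent.Nodes.LeviDec Cfsg.Agent.KFacts.RgdOpp
  Cfsg.Agent.Omega.CR Cfsg.Agent.Omega.FOne.Lift.Sd Cfsg.Agent.H911 Cfsg.Agent.Nodes.RGDLib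
  Cfsg.Agent.KFacts.MulOdd.Inst Cfsg.Agent.KFacts.MulOdd.Shrink
open Cfsg Cfsg.Geo Cfsg.Agent.H905.Md Cfsg.Agent.H905.DC Cfsg.Agent.H915.LD Cfsg.Agent.H218.SdAbs Cfsg.Agent.H218.SdLift
open Cfsg.Agent.H218.SdQuot Cfsg.Agent.H218.SdSpin Cfsg.Agent.H218.SdB3
open scoped MatrixGroups Matrix

/-! ### indices -/

section idx

variable {I W : Type*} [Fintype I] [DecidableEq I] [Group W] {M : CoxeterMatrix I} (cs : CoxeterSystem M W)
  {A : I → I → ℤ} (h : IsCartan M A) [Finite W]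

include h in
/-- a second missing node doubles the index -/
theorem two_mul_le {J : Set I} {i j : I} (hi : i ∉ J) (hj : j ∉ J) (hij : j ≠ i) {N : ℕ}
    (hN : ∀ J' : Set I, i ∉ J' → N ≤ (WJ cs J').index) : 2 * N ≤ (WJ cs J).index := by
  have hle : WJ cs J ≤ WJ cs ({i}ᶜ : Set I) := by
    unfold WJ
    refine Subgroup.closure_mono ?_
    rintro _ ⟨l, hl, rfl⟩
    exact ⟨l, fun e => hi (by rw [← show l = i from e]; exact hl), rfl⟩
  have h1 := Subgroup.relIndex_mul_index hle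
  have h2 : (WJ cs J).relIndex (WJ cs ({i}ᶜ : Set I)) ≠ 1 := by
    intro h3
    rw [Subgroup.relIndex_eq_one] at h3
    have h4 : cs.simple j ∈ WJ cs ({i}ᶜ : Set I) := Subgroup.subset_closure ⟨j, hij, rfl⟩
    exact hj (simple_mem_WJ h (h3 h4))
  have h3 : (WJ cs J).relIndex (WJ cs ({i}ᶜ : Set I)) ≠ 0 := Subgroup.index_ne_zero_of_finite
  have h4 := hN ({i}ᶜ : Set I) (fun h => h rfl)
  rw [← h1]
  exact Nat.mul_le_mul (by omega) h4

end idx

section main

variable {F : Type*} [Field F] [Finite F] {ι : Type} [Fintype ι] [DecidableEq ι] {P : Subgroup (GL ι F)}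
  {p : ℕ} [Fact p.Prime] [CharP F p]

/-- **Relative type `B_3`.** -/
theorem sd_B3 {B : Set (Fin 3)} (hB : ∀ i, i ≠ 2 → i ∈ B) {G : Type*} [Group G]
    (hH : HasInv p (CoxeterMatrix.B 3) (Nodes.TypeC.A 3) (Nodes.TypeC.isCartan 3) id B G)
    (hC : Core P) (e : Soc P ≃* G) (hn : Fintype.card ι ≤ 12) : SD P := by
  have hne : Nonempty ι := by
    by_contra hcon
    rw [not_nonempty_iff] at hcon
    exact absurd (hC.nonabelian) (not_not.2 ⟨⟨fun a b => by
      obtain ⟨a, rfl⟩ := QuotientGroup.mk_surjective a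
      obtain ⟨b, rfl⟩ := QuotientGroup.mk_surjective b
      rw [Subsingleton.elim a b]⟩⟩)
  refine hH.sd' hC e (fun _ => rfl) (fun _ _ => rfl) (fun J => (2 : Fin 3) ∉ J ∧ ∀ i, i ≠ 2 → i ∈ J) ?_ ?_
  · intro J hJ hW hidx
    have i1 : ∀ J' : Set (Fin 3), (1 : Fin 3) ∉ J' → 12 ≤ (WJ (CoxeterMatrix.B 3).toCoxeterSystem J').index :=
      fun J' h' => length_le_index _ isCartan_cB3 h' [[], [1], [1, 0], [1, 2], [1, 0, 2], [1, 2, 1], [1, 0, 2, 1], [1, 2, 1, 0], [1, 0, 2, 1, 0], [1, 0, 2, 1, 2], [1, 0, 2, 1, 0, 2], [1, 0, 2, 1, 0, 2, 1]] (by decide +kernel)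
    have i2 : ∀ J' : Set (Fin 3), (2 : Fin 3) ∉ J' → 8 ≤ (WJ (CoxeterMatrix.B 3).toCoxeterSystem J').index :=
      fun J' h' => length_le_index _ isCartan_cB3 h' [[], [2], [2, 1], [2, 1, 0], [2, 1, 2], [2, 1, 0, 2], [2, 1, 0, 2, 1], [2, 1, 0, 2, 1, 2]] (by decide +kernel)
    by_cases h2 : (2 : Fin 3) ∈ J
    · left
      by_cases h1 : (1 : Fin 3) ∈ J
      · refine ⟨fun i => ?_, fun i hi => ⟨rfl, hB i (fun e => hi (e ▸ h2))⟩⟩
        fin_cases i
        · exact adj_RJ (sr_mem_RJ h1) (by decide +kernel) (by decide +kernel)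
        · exact sr_mem_RJ h1
        · exact sr_mem_RJ h2
      · have h0 : (0 : Fin 3) ∈ J := by
          by_contra h0
          have := two_mul_le _ isCartan_cB3 h1 h0 (by decide) i1
          omega
        refine ⟨fun i => ?_, fun i hi => ⟨rfl, hB i (fun e => hi (e ▸ h2))⟩⟩
        fin_cases i
        · exact sr_mem_RJ h0
        · exact adj_RJ (sr_mem_RJ h0) (by decide +kernel) (by decide +kernel)
        · exact sr_mem_RJ h2
    · right
      refine ⟨h2, fun i hi => ?_⟩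
      by_contra hcon
      have := two_mul_le _ isCartan_cB3 h2 hcon hi i2
      omega
  · intro T n X hW R hG hK
    have hfin : Finite P := inferInstance
    exact sd_spin R hG P.range_subtype hC.absIrred hK.1 hK.2 hn

/-- relative type `B_4` -/
theorem sd_B4 {B : Set (Fin 4)} (hB : (0 : Fin 4) ∈ B) {G : Type*} [Group G]
    (hH : HasInv p (CoxeterMatrix.B 4) (Nodes.TypeC.A 4) (Nodes.TypeC.isCartan 4) id B G)
    (hC : Core P) (e : Soc P ≃* G) (hn : Fintype.card ι ≤ 12) : SD P := by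
  refine hH.sd hC e (fun _ => rfl) (fun _ _ => rfl) ?_
  intro J hJ hW hidx
  have j1 : (1 : Fin 4) ∈ J := by
    by_contra hcon
    have := length_le_index (CoxeterMatrix.B 4).toCoxeterSystem isCartan_cB4 hcon [[], [1], [1, 0], [1, 2], [1, 0, 2], [1, 2, 3], [1, 0, 2, 1], [1, 0, 2, 3], [1, 2, 3, 2], [1, 0, 2, 1, 3], [1, 0, 2, 3, 2], [1, 2, 3, 2, 1], [1, 0, 2, 1, 3, 2]] (by decide +kernel)
    simp only [List.length_cons, List.length_nil] at this
    omega
  have j2 : (2 : Fin 4) ∈ J := by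
    by_contra hcon
    have := length_le_index (CoxeterMatrix.B 4).toCoxeterSystem isCartan_cB4 hcon [[], [2], [2, 1], [2, 3], [2, 1, 0], [2, 1, 3], [2, 3, 2], [2, 1, 0, 3], [2, 1, 3, 2], [2, 3, 2, 1], [2, 1, 0, 3, 2], [2, 1, 3, 2, 1], [2, 1, 3, 2, 3]] (by decide +kernel)
    simp only [List.length_cons, List.length_nil] at this
    omega
  have j3 : (3 : Fin 4) ∈ J := by
    by_contra hcon
    have := length_le_index (CoxeterMatrix.B 4).toCoxeterSystem isCartan_cB4 hcon [[], [3], [3, 2], [3, 2, 1], [3, 2, 3], [3, 2, 1, 0], [3, 2, 1, 3], [3, 2, 1, 0, 3], [3, 2, 1, 3, 2], [3, 2, 1, 0, 3, 2], [3, 2, 1, 3, 2, 3], [3, 2, 1, 0, 3, 2, 1], [3, 2, 1, 0, 3, 2, 3]] (by decide +kernel)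
    simp only [List.length_cons, List.length_nil] at this
    omega
  refine ⟨fun i => ?_, fun i hi => ⟨rfl, ?_⟩⟩
  · fin_cases i
    · exact adj_RJ (sr_mem_RJ j1) (by decide +kernel) (by decide +kernel)
    · exact sr_mem_RJ j1
    · exact sr_mem_RJ j2
    · exact sr_mem_RJ j3
  · fin_cases i
    · exact hB
    · exact absurd j1 hi
    · exact absurd j2 hi
    · exact absurd j3 hi

/-- relative type `B_5` -/
theorem sd_B5 {B : Set (Fin 5)} (hB : (0 : Fin 5) ∈ B) {G : Type*} [Group G]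
    (hH : HasInv p (CoxeterMatrix.B 5) (Nodes.TypeC.A 5) (Nodes.TypeC.isCartan 5) id B G)
    (hC : Core P) (e : Soc P ≃* G) (hn : Fintype.card ι ≤ 12) : SD P := by
  refine hH.sd hC e (fun _ => rfl) (fun _ _ => rfl) ?_
  intro J hJ hW hidx
  have j1 : (1 : Fin 5) ∈ J := by
    by_contra hcon
    have := length_le_index (CoxeterMatrix.B 5).toCoxeterSystem isCartan_cB5 hcon [[], [1], [1, 0], [1, 2], [1, 0, 2], [1, 2, 3], [1, 0, 2, 1], [1, 0, 2, 3], [1, 2, 3, 4], [1, 0, 2, 1, 3], [1, 0, 2, 3, 4], [1, 2, 3, 4, 3], [1, 0, 2, 1, 3, 2]] (by decide +kernel)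
    simp only [List.length_cons, List.length_nil] at this
    omega
  have j2 : (2 : Fin 5) ∈ J := by
    by_contra hcon
    have := length_le_index (CoxeterMatrix.B 5).toCoxeterSystem isCartan_cB5 hcon [[], [2], [2, 1], [2, 3], [2, 1, 0], [2, 1, 3], [2, 3, 4], [2, 1, 0, 3], [2, 1, 3, 2], [2, 1, 3, 4], [2, 3, 4, 3], [2, 1, 0, 3, 2], [2, 1, 0, 3, 4]] (by decide +kernel)
    simp only [List.length_cons, List.length_nil] at this
    omega
  have j3 : (3 : Fin 5) ∈ J := by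
    by_contra hcon
    have := length_le_index (CoxeterMatrix.B 5).toCoxeterSystem isCartan_cB5 hcon [[], [3], [3, 2], [3, 4], [3, 2, 1], [3, 2, 4], [3, 4, 3], [3, 2, 1, 0], [3, 2, 1, 4], [3, 2, 4, 3], [3, 4, 3, 2], [3, 2, 1, 0, 4], [3, 2, 1, 4, 3]] (by decide +kernel)
    simp only [List.length_cons, List.length_nil] at this
    omega
  have j4 : (4 : Fin 5) ∈ J := by
    by_contra hcon
    have := length_le_index (CoxeterMatrix.B 5).toCoxeterSystem isCartan_cB5 hcon [[], [4], [4, 3], [4, 3, 2], [4, 3, 4], [4, 3, 2, 1], [4, 3, 2, 4], [4, 3, 2, 1, 0], [4, 3, 2, 1, 4], [4, 3, 2, 4, 3], [4, 3, 2, 1, 0, 4], [4, 3, 2, 1, 4, 3], [4, 3, 2, 4, 3, 4]] (by decide +kernel)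
    simp only [List.length_cons, List.length_nil] at this
    omega
  refine ⟨fun i => ?_, fun i hi => ⟨rfl, ?_⟩⟩
  · fin_cases i
    · exact adj_RJ (sr_mem_RJ j1) (by decide +kernel) (by decide +kernel)
    · exact sr_mem_RJ j1
    · exact sr_mem_RJ j2
    · exact sr_mem_RJ j3
    · exact sr_mem_RJ j4
  · fin_cases i
    · exact hB
    · exact absurd j1 hi
    · exact absurd j2 hi
    · exact absurd j3 hi
    · exact absurd j4 hi

/-- relative type `B_6` -/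
theorem sd_B6 {B : Set (Fin 6)} (hB : (0 : Fin 6) ∈ B) {G : Type*} [Group G]
    (hH : HasInv p (CoxeterMatrix.B 6) (Nodes.TypeC.A 6) (Nodes.TypeC.isCartan 6) id B G)
    (hC : Core P) (e : Soc P ≃* G) (hn : Fintype.card ι ≤ 12) : SD P := by
  refine hH.sd hC e (fun _ => rfl) (fun _ _ => rfl) ?_
  intro J hJ hW hidx
  have j1 : (1 : Fin 6) ∈ J := by
    by_contra hcon
    have := length_le_index (CoxeterMatrix.B 6).toCoxeterSystem isCartan_cB6 hcon [[], [1], [1, 0], [1, 2], [1, 0, 2], [1, 2, 3], [1, 0, 2, 1], [1, 0, 2, 3], [1, 2, 3, 4], [1, 0, 2, 1, 3], [1, 0, 2, 3, 4], [1, 2, 3, 4, 5], [1, 0, 2, 1, 3, 2]] (by decide +kernel)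
    simp only [List.length_cons, List.length_nil] at this
    omega
  have j2 : (2 : Fin 6) ∈ J := by
    by_contra hcon
    have := length_le_index (CoxeterMatrix.B 6).toCoxeterSystem isCartan_cB6 hcon [[], [2], [2, 1], [2, 3], [2, 1, 0], [2, 1, 3], [2, 3, 4], [2, 1, 0, 3], [2, 1, 3, 2], [2, 1, 3, 4], [2, 3, 4, 5], [2, 1, 0, 3, 2], [2, 1, 0, 3, 4]] (by decide +kernel)
    simp only [List.length_cons, List.length_nil] at this
    omega
  have j3 : (3 : Fin 6) ∈ J := by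
    by_contra hcon
    have := length_le_index (CoxeterMatrix.B 6).toCoxeterSystem isCartan_cB6 hcon [[], [3], [3, 2], [3, 4], [3, 2, 1], [3, 2, 4], [3, 4, 5], [3, 2, 1, 0], [3, 2, 1, 4], [3, 2, 4, 3], [3, 2, 4, 5], [3, 4, 5, 4], [3, 2, 1, 0, 4]] (by decide +kernel)
    simp only [List.length_cons, List.length_nil] at this
    omega
  have j4 : (4 : Fin 6) ∈ J := by
    by_contra hcon
    have := length_le_index (CoxeterMatrix.B 6).toCoxeterSystem isCartan_cB6 hcon [[], [4], [4, 3], [4, 5], [4, 3, 2], [4, 3, 5], [4, 5, 4], [4, 3, 2, 1], [4, 3, 2, 5], [4, 3, 5, 4], [4, 5, 4, 3], [4, 3, 2, 1, 0], [4, 3, 2, 1, 5]] (by decide +kernel)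
    simp only [List.length_cons, List.length_nil] at this
    omega
  have j5 : (5 : Fin 6) ∈ J := by
    by_contra hcon
    have := length_le_index (CoxeterMatrix.B 6).toCoxeterSystem isCartan_cB6 hcon [[], [5], [5, 4], [5, 4, 3], [5, 4, 5], [5, 4, 3, 2], [5, 4, 3, 5], [5, 4, 3, 2, 1], [5, 4, 3, 2, 5], [5, 4, 3, 5, 4], [5, 4, 3, 2, 1, 0], [5, 4, 3, 2, 1, 5], [5, 4, 3, 2, 5, 4]] (by decide +kernel)
    simp only [List.length_cons, List.length_nil] at this
    omega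
  refine ⟨fun i => ?_, fun i hi => ⟨rfl, ?_⟩⟩
  · fin_cases i
    · exact adj_RJ (sr_mem_RJ j1) (by decide +kernel) (by decide +kernel)
    · exact sr_mem_RJ j1
    · exact sr_mem_RJ j2
    · exact sr_mem_RJ j3
    · exact sr_mem_RJ j4
    · exact sr_mem_RJ j5
  · fin_cases i
    · exact hB
    · exact absurd j1 hi
    · exact absurd j2 hi
    · exact absurd j3 hi
    · exact absurd j4 hi
    · exact absurd j5 hi

/-- `PΩ⁺_8(K)` -/
theorem sd_D4 {G : Type*} [Group G]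
    (hH : HasInv p (Nodes.TypeD.M 2) (Nodes.TypeD.A 2) (Nodes.TypeD.isCartan 2) id Set.univ G)
    (hC : Core P) (e : Soc P ≃* G) (hn : Fintype.card ι ≤ 12) : SD P := by
  refine hH.sd hC e (fun _ => rfl) (fun _ _ => rfl) ?_
  intro J hJ hW hidx
  have j1 : (1 : Fin 4) ∈ J := by
    by_contra hcon
    have := length_le_index (Nodes.TypeD.M 2).toCoxeterSystem isCartan_cD4 hcon [[], [1], [1, 0], [1, 2], [1, 3], [1, 0, 2], [1, 0, 3], [1, 2, 3], [1, 0, 2, 1], [1, 0, 2, 3], [1, 0, 3, 1], [1, 2, 3, 1], [1, 0, 2, 1, 3]] (by decide +kernel)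
    simp only [List.length_cons, List.length_nil] at this
    omega
  refine ⟨fun i => ?_, fun i hi => ⟨rfl, Set.mem_univ _⟩⟩
  fin_cases i
  · exact adj_RJ (sr_mem_RJ j1) (by decide +kernel) (by decide +kernel)
  · exact sr_mem_RJ j1
  · exact adj_RJ (sr_mem_RJ j1) (by decide +kernel) (by decide +kernel)
  · exact adj_RJ (sr_mem_RJ j1) (by decide +kernel) (by decide +kernel)

/-- `PΩ⁺_{10}(K)` -/
theorem sd_D5 {G : Type*} [Group G]
    (hH : HasInv p (Nodes.TypeD.M 3) (Nodes.TypeD.A 3) (Nodes.TypeD.isCartan 3) SdD.σ5 {0} G)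
    (hC : Core P) (e : Soc P ≃* G) (hn : Fintype.card ι ≤ 12) : SD P := by
  refine hH.sd hC e (by decide +kernel) (by decide +kernel) ?_
  intro J hJ hW hidx
  have j1 : (1 : Fin 5) ∈ J := by
    by_contra hcon
    have := length_le_index (Nodes.TypeD.M 3).toCoxeterSystem isCartan_cD5 hcon [[], [1], [1, 0], [1, 2], [1, 0, 2], [1, 2, 3], [1, 2, 4], [1, 0, 2, 1], [1, 0, 2, 3], [1, 0, 2, 4], [1, 2, 3, 4], [1, 0, 2, 1, 3], [1, 0, 2, 1, 4]] (by decide +kernel)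
    simp only [List.length_cons, List.length_nil] at this
    omega
  have j2 : (2 : Fin 5) ∈ J := by
    by_contra hcon
    have := length_le_index (Nodes.TypeD.M 3).toCoxeterSystem isCartan_cD5 hcon [[], [2], [2, 1], [2, 3], [2, 4], [2, 1, 0], [2, 1, 3], [2, 1, 4], [2, 3, 4], [2, 1, 0, 3], [2, 1, 0, 4], [2, 1, 3, 2], [2, 1, 3, 4]] (by decide +kernel)
    simp only [List.length_cons, List.length_nil] at this
    omega
  have j3 : (3 : Fin 5) ∈ J := by
    by_contra hcon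
    have := length_le_index (Nodes.TypeD.M 3).toCoxeterSystem isCartan_cD5 hcon [[], [3], [3, 2], [3, 2, 1], [3, 2, 4], [3, 2, 1, 0], [3, 2, 1, 4], [3, 2, 1, 0, 4], [3, 2, 1, 4, 2], [3, 2, 1, 0, 4, 2], [3, 2, 1, 4, 2, 3], [3, 2, 1, 0, 4, 2, 1], [3, 2, 1, 0, 4, 2, 3]] (by decide +kernel)
    simp only [List.length_cons, List.length_nil] at this
    omega
  have j4 : (4 : Fin 5) ∈ J := by
    by_contra hcon
    have := length_le_index (Nodes.TypeD.M 3).toCoxeterSystem isCartan_cD5 hcon [[], [4], [4, 2], [4, 2, 1], [4, 2, 3], [4, 2, 1, 0], [4, 2, 1, 3], [4, 2, 1, 0, 3], [4, 2, 1, 3, 2], [4, 2, 1, 0, 3, 2], [4, 2, 1, 3, 2, 4], [4, 2, 1, 0, 3, 2, 1], [4, 2, 1, 0, 3, 2, 4]] (by decide +kernel)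
    simp only [List.length_cons, List.length_nil] at this
    omega
  refine ⟨fun i => ?_, fun i hi => ?_⟩
  · fin_cases i
    · exact adj_RJ (sr_mem_RJ j1) (by decide +kernel) (by decide +kernel)
    · exact sr_mem_RJ j1
    · exact sr_mem_RJ j2
    · exact sr_mem_RJ j3
    · exact sr_mem_RJ j4
  · fin_cases i
    · exact ⟨rfl, rfl⟩
    · exact absurd j1 hi
    · exact absurd j2 hi
    · exact absurd j3 hi
    · exact absurd j4 hi

/-- `PΩ⁺_{12}(K)` -/
theorem sd_D6 {G : Type*} [Group G]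
    (hH : HasInv p (Nodes.TypeD.M 4) (Nodes.TypeD.A 4) (Nodes.TypeD.isCartan 4) id Set.univ G)
    (hC : Core P) (e : Soc P ≃* G) (hn : Fintype.card ι ≤ 12) : SD P := by
  refine hH.sd hC e (fun _ => rfl) (fun _ _ => rfl) ?_
  intro J hJ hW hidx
  have j1 : (1 : Fin 6) ∈ J := by
    by_contra hcon
    have := length_le_index (Nodes.TypeD.M 4).toCoxeterSystem isCartan_cD6 hcon [[], [1], [1, 0], [1, 2], [1, 0, 2], [1, 2, 3], [1, 0, 2, 1], [1, 0, 2, 3], [1, 2, 3, 4], [1, 2, 3, 5], [1, 0, 2, 1, 3], [1, 0, 2, 3, 4], [1, 0, 2, 3, 5]] (by decide +kernel)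
    simp only [List.length_cons, List.length_nil] at this
    omega
  have k2 : sr (2 : Fin 6) ∈ RJ (Nodes.TypeD.M 4).toCoxeterSystem (Nodes.TypeD.isCartan 4) J :=
    adj_RJ (sr_mem_RJ j1) (by decide +kernel) (by decide +kernel)
  have k3 : sr (3 : Fin 6) ∈ RJ (Nodes.TypeD.M 4).toCoxeterSystem (Nodes.TypeD.isCartan 4) J :=
    adj_RJ k2 (by decide +kernel) (by decide +kernel)
  refine ⟨fun i => ?_, fun i hi => ⟨rfl, Set.mem_univ _⟩⟩
  fin_cases i
  · exact adj_RJ (sr_mem_RJ j1) (by decide +kernel) (by decide +kernel)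
  · exact sr_mem_RJ j1
  · exact k2
  · exact k3
  · exact adj_RJ k3 (by decide +kernel) (by decide +kernel)
  · exact adj_RJ k3 (by decide +kernel) (by decide +kernel)

/-! ### the groups -/

end main

section groups

variable {F : Type*} [Field F] [Finite F] {ι : Type} [Fintype ι] [DecidableEq ι] {P : Subgroup (GL ι F)}
  (p : ℕ) [Fact p.Prime] [CharP F p] {K : Type*} [Field K] [Finite K] [CharP K p] {m : ℕ}
include p

/-- **`PΩ_{2m+1}(K)`.** -/
theorem sd_PO_odd (hC : Core P) (h2 : (2 : K) ≠ 0) (hm : 3 ≤ m) (hmn : 2 * m ≤ Fintype.card ι)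
    (hn : Fintype.card ι ≤ 12) (e : Soc P ≃* Cfsg.POmega K (Cfsg.quadFormOdd m K)) : SD P := by
  have hH := SdC.hasInv_PO_odd (F := K) (m := m) h2 (by omega) (p := p)
  rcases (show m = 3 ∨ m = 4 ∨ m = 5 ∨ m = 6 by omega) with rfl | rfl | rfl | rfl
  · exact sd_B3 (fun _ _ => Set.mem_univ _) hH hC e hn
  · exact sd_B4 (Set.mem_univ _) hH hC e hn
  · exact sd_B5 (Set.mem_univ _) hH hC e hn
  · exact sd_B6 (Set.mem_univ _) hH hC e hn

/-- **`PΩ⁻_{2m+2}(K)`.** -/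
theorem sd_PO_minus (hC : Core P) {a b : K}
    (hab : ∀ z₁ z₂ : K, z₁ ^ 2 + a * z₁ * z₂ + b * z₂ ^ 2 = 0 → z₁ = 0 ∧ z₂ = 0) (hm : 3 ≤ m)
    (hmn : 2 * m ≤ Fintype.card ι) (hn : Fintype.card ι ≤ 12)
    (e : Soc P ≃* Cfsg.POmega K (Cfsg.quadFormMinus m K a b)) : SD P := by
  have hH := SdC.hasInv_PO_minus hab (m := m) (by omega) (p := p)
  rcases (show m = 3 ∨ m = 4 ∨ m = 5 ∨ m = 6 by omega) with rfl | rfl | rfl | rfl
  · refine sd_B3 (fun i hi => ?_) hH hC e hn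
    have h1 : (i : ℕ) ≠ 2 := fun h => hi (Fin.ext h)
    have h3 := i.2
    rw [Set.mem_ofPred_eq]
    omega
  · exact sd_B4 (by change (0 : ℕ) + 1 < 4; norm_num) hH hC e hn
  · exact sd_B5 (by change (0 : ℕ) + 1 < 5; norm_num) hH hC e hn
  · exact sd_B6 (by change (0 : ℕ) + 1 < 6; norm_num) hH hC e hn

/-- **`PΩ⁺_{2m}(K)`.** -/
theorem sd_PO_plus (hC : Core P) (hm : 4 ≤ m) (hmn : 2 * m ≤ Fintype.card ι)
    (hn : Fintype.card ι ≤ 12) (e : Soc P ≃* Cfsg.POmega K (Cfsg.quadFormPlus m K)) : SD P := by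
  rcases (show m = 4 ∨ m = 5 ∨ m = 6 by omega) with rfl | rfl | rfl
  · exact sd_D4 SdD.hasInv_PO_plus_four hC e hn
  · exact sd_D5 SdD.hasInv_PO_plus_five hC e hn
  · exact sd_D6 SdD.hasInv_PO_plus_six hC e hn

end groups

end Cfsg.Agent.H218.SdFin
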