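import Cfsg.Agent.H218.SdLift
import Cfsg.Agent.H905.MdH

/-!
# Inversion data and self-dual modules of the covers (helper218)

* `exists_lift` : the lifted root group datum and the lifted representatives;
* `HasInv p M A h σ B G` : `G` has a root group datum and `w` over `w0`, `w0 α_i = -α_{σ i}`, which inverts the tori of
  the nodes of `B`;
* `HasInv.sd` : then `SD P` for `P/scalars ≃ G` if every `J` with `|W : W_J| ≤ |ι|` is good.
-/

set_option autoImplicit false
set_option linter.unusedSectionVars false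
set_option linter.style.haveILetI false

namespace Cfsg.Agent.H218.SdQuot

open CoxeterSystem Cfsg.Agent.ChevalleyStructure.CoxeterGeom Cfsg.Agent.Tits.Roots Cfsg.Agent.Tits.Core
  Cfsg.Agent.Tits.Exchange Cfsg.Agent.Nodes.Reps Cfsg.Agent.Nodes.BNOf Cfsg.Agent.Nodes.StabComb
  Cfsg.Agent.Nodes.Bruhat Cfsg.Agent.Nodes.OppDec Cfsg.Agent.Nodes.LeviDec Cfsg.Agent.KFacts.RgdOpp
  Cfsg.Agent.Omega.CR Cfsg.Agent.Omega.FOne.Lift.Sd Cfsg.Agent.H911 Cfsg.Agent.Nodes.RGDLib Cfsg.Agent.Nodes.RGDLift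
  Cfsg.Agent.KFacts.MulOdd.Inst Cfsg.Agent.KFacts.MulOdd.Shrink
open Cfsg Cfsg.Geo Cfsg.Agent.H905.Md Cfsg.Agent.H905.DC Cfsg.Agent.H915.LD Cfsg.Agent.H218.SdAbs Cfsg.Agent.H218.SdLift
open scoped MatrixGroups Matrix

section lift

variable {I W Y Y' : Type*} [Fintype I] [DecidableEq I] [Group W] [Finite W] [Group Y] [Finite Y] [Group Y']
  {M : CoxeterMatrix I}
  {cs : CoxeterSystem M W} {A : I → I → ℤ} {h : IsCartan M A} {p : ℕ} [Fact p.Prime] {T' : Subgroup Y'} {n' : I → Y'}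
  {X' : (I → ℤ) → Subgroup Y'} {f : Y →* Y'}

theorem exists_lift (hY : commutator Y = ⊤) (hf : f.ker ≤ Subgroup.center Y) (hp : (Nat.card f.ker).Coprime p)
    (hs : Function.Surjective f) (R : RGD cs h p T' n' X') (hG : G1 cs h X' = ⊤) :
    ∃ (n : I → Y) (R' : RGD cs h p (T'.comap f) n (fun x => lft p f (X' x))),
      G1 cs h (fun x => lft p f (X' x)) = ⊤ ∧ ∀ (w0 : W) (w : Y), Rp cs R.nsys w0 (f w) → Rp cs R'.nsys w0 w := by
  obtain ⟨n, hn, R', hG'⟩ := exists_rgd_lift hY hf hp hs R hG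
  refine ⟨n, R', hG', fun w0 w hw => ?_⟩
  have key : ∀ ω : List I, ∃ g, Rp cs R'.nsys (cs.wordProd ω) g ∧ Rp cs R.nsys (cs.wordProd ω) (f g) := by
    intro ω
    induction ω with
    | nil => exact ⟨1, by rw [wordProd_nil]; exact rp_one, by rw [wordProd_nil, map_one]; exact rp_one⟩
    | cons i ω ih =>
      obtain ⟨g, h1, h2⟩ := ih
      refine ⟨n i * g, by rw [wordProd_cons]; exact (rp_simple cs R'.nsys i).mul h1, ?_⟩
      rw [wordProd_cons, map_mul, hn]
      exact (rp_simple cs R.nsys i).mul h2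
  obtain ⟨ω, rfl⟩ := cs.wordProd_surjective w0
  obtain ⟨g, h1, h2⟩ := key ω
  have h3 : g⁻¹ * w ∈ T'.comap f := by
    rw [Subgroup.mem_comap, map_mul, map_inv]
    exact h2.unique hw
  have h4 := h1.mul_mem_right h3
  rwa [mul_inv_cancel_left] at h4

theorem map_Lr (hf : f.ker ≤ Subgroup.center Y) (hp : (Nat.card f.ker).Coprime p)
    (hs : Function.Surjective f) (R : RGD cs h p T' n' X') {x : I → ℤ} (hx : IsRoot cs h x) :
    (Lr (fun x => lft p f (X' x)) x).map f = Lr X' x := by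
  unfold Lr
  rw [Subgroup.map_sup, map_lft hf hp hs (R.pgrp' hx), map_lft hf hp hs (R.pgrp' hx.neg)]

end lift

/-- **Inversion data.** -/
def HasInv (p : ℕ) {l : ℕ} (M : CoxeterMatrix (Fin l)) (A : Fin l → Fin l → ℤ) (h : IsCartan M A)
    (σ : Fin l → Fin l) (B : Set (Fin l)) (G : Type*) [Group G] : Prop :=
  ∃ (T : Subgroup G) (n : Fin l → G) (X : (Fin l → ℤ) → Subgroup G) (_ : Finite M.Group)
    (R : RGD M.toCoxeterSystem h p T n X) (w0 : M.Group) (w : G),
    G1 M.toCoxeterSystem h X = ⊤ ∧ (∀ i, rep M.toCoxeterSystem h w0 (sr i) = -sr (σ i)) ∧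
    Rp M.toCoxeterSystem R.nsys w0 w ∧
    ∀ i ∈ B, ∀ t ∈ T, t ∈ Lv X i → w⁻¹ * t⁻¹ * w = t ∧ ∀ s ∈ T, s * t = t * s

/-- the sets `J` for which the module is self-dual -/
def GoodJ {l : ℕ} (M : CoxeterMatrix (Fin l)) (A : Fin l → Fin l → ℤ) (h : IsCartan M A) (σ : Fin l → Fin l)
    (B J : Set (Fin l)) : Prop :=
  (∀ i, sr i ∈ RJ M.toCoxeterSystem h J) ∧ ∀ i, i ∉ J → σ i = i ∧ i ∈ B

section main

variable {F : Type*} [Field F] [Finite F] {ι : Type} [Fintype ι] [DecidableEq ι] {P : Subgroup (GL ι F)}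
  {p : ℕ} [Fact p.Prime] [CharP F p]

theorem HasInv.sd' {l : ℕ} {M : CoxeterMatrix (Fin l)} {A : Fin l → Fin l → ℤ} {h : IsCartan M A}
    {σ : Fin l → Fin l} {B : Set (Fin l)} {G : Type*} [Group G] (hH : HasInv p M A h σ B G)
    (hC : Core P) (e : Soc P ≃* G) (hσ : ∀ i, σ (σ i) = i) (hA : ∀ i j, A (σ i) (σ j) = A i j)
    (K : Set (Fin l) → Prop)
    (hJ : ∀ J : Set (Fin l), J ≠ Set.univ → Finite M.Group → (WJ M.toCoxeterSystem J).index ≤ Fintype.card ι →
      GoodJ M A h σ B J ∨ K J)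
    (hK : ∀ (T : Subgroup P) (n : Fin l → P) (X : (Fin l → ℤ) → Subgroup P), Finite M.Group →
      RGD M.toCoxeterSystem h p T n X → G1 M.toCoxeterSystem h X = ⊤ →
      K (Jx M.toCoxeterSystem h X (lin (acRep P.subtype))) → SD P) : SD P := by
  obtain ⟨T, n, X, hW, R, w0, w, hG1, hw0, hw, hinv⟩ := hH
  have hsimple := hC.simple
  -- the projection
  let f : P →* G := e.toMonoidHom.comp (QuotientGroup.mk' ((scalars ι F).subgroupOf P))
  have hker : f.ker = (scalars ι F).subgroupOf P := by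
    ext x
    rw [MonoidHom.mem_ker, MonoidHom.comp_apply]
    change e _ = 1 ↔ _
    rw [map_eq_one_iff e e.injective, ← MonoidHom.mem_ker, QuotientGroup.ker_mk']
  have hfc : f.ker ≤ Subgroup.center P := by rw [hker]; exact subgroupOf_scalars_le P
  have hfp : (Nat.card f.ker).Coprime p := by rw [hker]; exact card_scalars_coprime P
  have hfs : Function.Surjective f := e.surjective.comp (QuotientGroup.mk'_surjective _)
  have hperf : commutator P = ⊤ := commutator_eq_top_of_perfect hC.perfect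
  obtain ⟨n', R', hG', hrp⟩ := exists_lift hperf hfc hfp hfs R hG1
  obtain ⟨w', rfl⟩ := hfs w
  have hw' := hrp w0 w' hw
  have hne : Nonempty ι := by
    by_contra hcon
    rw [not_nonempty_iff] at hcon
    exact absurd (hC.nonabelian) (not_not.2 ⟨⟨fun a b => by
      obtain ⟨a, rfl⟩ := QuotientGroup.mk_surjective a
      obtain ⟨b, rfl⟩ := QuotientGroup.mk_surjective b
      rw [Subsingleton.elim a b]⟩⟩)
  have hchar : CharP (AlgebraicClosure F) p := charP_of_injective_algebraMap (algebraMap F _).injective p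
  have hirr : ∀ L : Submodule (AlgebraicClosure F) (ι → AlgebraicClosure F),
      Ivt (lin (acRep P.subtype)) (GG M.toCoxeterSystem h (T.comap f) (fun x => lft p f (X x))) L → L = ⊥ ∨ L = ⊤ :=
    fun L hL => acRep_irr (φ := P.subtype) (P := P) P.range_subtype (H920.span_eq_top hC.absIrred)
      (gg_eq_top hG') L hL
  have hJ1 : Jx M.toCoxeterSystem h (fun x => lft p f (X x)) (lin (acRep P.subtype)) ≠ Set.univ := by
    refine Jx_ne_univ R' hirr hG' ?_
    by_contra hcon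
    push Not at hcon
    have h1 : ∀ y : P, y = 1 := fun y => acRep_injective (φ := P.subtype) Subtype.val_injective (hcon y)
    exact absurd (hC.nonabelian) (not_not.2 ⟨⟨fun a b => by
      obtain ⟨a, rfl⟩ := QuotientGroup.mk_surjective a
      obtain ⟨b, rfl⟩ := QuotientGroup.mk_surjective b
      rw [h1 a, h1 b]⟩⟩)
  have hJ2 := hJ _ hJ1 hW (by
    have h1 := index_le R' hirr
    rwa [Module.finrank_fintype_fun_eq_card] at h1)
  rcases hJ2 with hJ2 | hJ2
  swap
  · exact hK _ _ _ hW R' hG' hJ2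
  obtain ⟨hJ3, hJ4⟩ := hJ2
  refine sd_gen R' hG' (Z := f.ker) hfc (φ := P.subtype) P.range_subtype Subtype.val_injective hC.absIrred hσ hA
    hw0 hw' rfl (fun i hi => (hJ4 i hi).1) ?_
  refine (torus_le R' hG').trans (iSup_le fun i t ht => Subgroup.subset_closure ?_)
  obtain ⟨h1, h2⟩ := Subgroup.mem_inf.1 ht
  refine ⟨h1, ?_⟩
  by_cases hi : i ∈ Jx M.toCoxeterSystem h (fun x => lft p f (X x)) (lin (acRep P.subtype))
  · exact Or.inl ⟨i, hi, h2⟩
  · have h3 : f t ∈ Lv X i := by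
      have h4 := map_Lr hfc hfp hfs R (isRoot_sr M.toCoxeterSystem h i)
      have h5 : f t ∈ (Lr (fun x => lft p f (X x)) (sr i)).map f := ⟨t, h2, rfl⟩
      rw [h4] at h5
      exact h5
    have h4 := hinv i (hJ4 i hi).2 _ h1 h3
    refine Or.inr (Or.inl ⟨sr i, hJ3 i, ?_, h2, ?_, fun s hs => ?_⟩)
    · rw [hw0, (hJ4 i hi).1]
    · rw [MonoidHom.mem_ker]
      simp only [map_mul, map_inv]
      rw [h4.1, mul_inv_cancel]
    · rw [MonoidHom.mem_ker]
      simp only [map_mul, map_inv]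
      rw [h4.2 _ hs]
      group

theorem HasInv.sd {l : ℕ} {M : CoxeterMatrix (Fin l)} {A : Fin l → Fin l → ℤ} {h : IsCartan M A}
    {σ : Fin l → Fin l} {B : Set (Fin l)} {G : Type*} [Group G] (hH : HasInv p M A h σ B G)
    (hC : Core P) (e : Soc P ≃* G) (hσ : ∀ i, σ (σ i) = i) (hA : ∀ i j, A (σ i) (σ j) = A i j)
    (hJ : ∀ J : Set (Fin l), J ≠ Set.univ → Finite M.Group → (WJ M.toCoxeterSystem J).index ≤ Fintype.card ι →
      GoodJ M A h σ B J) : SD P :=
  HasInv.sd' hH hC e hσ hA (fun _ => False) (fun J h1 h2 h3 => Or.inl (hJ J h1 h2 h3)) fun _ _ _ _ _ _ h => h.elim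

end main

end Cfsg.Agent.H218.SdQuot
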