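import Cfsg.Agent.H218.SdQuot

/-!
# Two-dimensional rank one modules (helper218)

`R : RGD cs h p T n X`, `ρ` simple, `Le {i} = k[L_i] V^U`.

* `det_Lv` : the elements of `⟨X_i, X_{-i}⟩` have determinant `1` on an invariant subspace;
* `chi_inv` : `dim V^U = 1`, `dim Le {i} ≤ 2`, `i ∉ J`: `χ(t) χ(m⁻¹ t m) = 1` for `t ∈ T ∩ ⟨X_i, X_{-i}⟩`, `m` over `s_i`;
* `sd_edge` : self-duality if `J = {i}ᶜ` and `w0 = s_i u` with `u` represented by an element centralising `L_i`.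
-/

set_option autoImplicit false
set_option linter.unusedSectionVars false
set_option linter.style.haveILetI false

namespace Cfsg.Agent.H218.SdSpin

open CoxeterSystem Cfsg.Agent.ChevalleyStructure.CoxeterGeom Cfsg.Agent.Tits.Roots Cfsg.Agent.Tits.Core
  Cfsg.Agent.Tits.Exchange Cfsg.Agent.Nodes.Reps Cfsg.Agent.Nodes.BNOf Cfsg.Agent.Nodes.StabComb
  Cfsg.Agent.Nodes.Bruhat Cfsg.Agent.Nodes.OppDec Cfsg.Agent.Nodes.LeviDec Cfsg.Agent.KFacts.RgdOpp
  Cfsg.Agent.Omega.CR Cfsg.Agent.Omega.FOne.Lift.Sd Cfsg.Agent.H911 Cfsg.Agent.Nodes.RGDLib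
  Cfsg.Agent.KFacts.MulOdd.Inst Cfsg.Agent.KFacts.MulOdd.Shrink
open Cfsg Cfsg.Geo Cfsg.Agent.H905.Md Cfsg.Agent.H915.LD Cfsg.Agent.H218.SdAbs Cfsg.Agent.H218.SdLift
open scoped MatrixGroups Matrix

variable {I W Y : Type*} [Fintype I] [DecidableEq I] [Group W] [Group Y] {M : CoxeterMatrix I}
  {cs : CoxeterSystem M W} {A : I → I → ℤ} {h : IsCartan M A} {p : ℕ} {T : Subgroup Y} {n : I → Y}
  {X : (I → ℤ) → Subgroup Y}

section det

variable {k V : Type*} [Field k] [AddCommGroup V] [Module k V] {ρ : Y →* Module.End k V}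

/-- the determinant on an invariant subspace -/
noncomputable def dt {L : Subgroup Y} {E : Submodule k V} (hE : Ivt ρ L E) : L →* k where
  toFun g := LinearMap.det ((ρ g.1).restrict (hE g.1 g.2))
  map_one' := by
    have h1 : (ρ ((1 : L) : Y)).restrict (hE (1 : L).1 (1 : L).2) = LinearMap.id := by
      ext v
      rw [LinearMap.coe_restrict_apply, Subgroup.coe_one, rho_one]
      rfl
    rw [h1, LinearMap.det_id]
  map_mul' a b := by
    have h1 : (ρ ((a * b : L) : Y)).restrict (hE (a * b : L).1 (a * b : L).2) =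
        (ρ a.1).restrict (hE a.1 a.2) * (ρ b.1).restrict (hE b.1 b.2) := by
      ext v
      rw [LinearMap.coe_restrict_apply, Subgroup.coe_mul, rho_mul]
      rfl
    rw [h1, map_mul]

variable [Finite Y] [Finite W] [Fact p.Prime] [CharP k p]

theorem det_Lv (R : RGD cs h p T n X) {i : I} {E : Submodule k V} (hE : Ivt ρ (Lv X i) E) (g : Lv X i) :
    dt hE g = 1 := by
  have key : ∀ x ∈ X (sr i) ⊔ X (-sr i), ∀ hx : x ∈ Lv X i, dt hE ⟨x, hx⟩ = 1 := by
    have h1 : (X (sr i) ⊔ X (-sr i)) ≤ ((dt hE).ker.map (Lv X i).subtype) := by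
      have h2 : ∀ y : I → ℤ, IsRoot cs h y → X y ≤ Lv X i → X y ≤ ((dt hE).ker.map (Lv X i).subtype) := by
        intro y hy hle x hx
        refine ⟨⟨x, hle hx⟩, ?_, rfl⟩
        rw [SetLike.mem_coe, MonoidHom.mem_ker]
        obtain ⟨m, hm⟩ := R.pgrp' hy ⟨x, hx⟩
        have hm' : x ^ p ^ m = 1 := congrArg Subtype.val hm
        have h3 : (dt hE ⟨x, hle hx⟩) ^ p ^ m = 1 := by
          rw [← map_pow]
          have h4 : (⟨x, hle hx⟩ : Lv X i) ^ p ^ m = 1 := Subtype.ext hm'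
          rw [h4, map_one]
        haveI : ExpChar k p := ExpChar.prime Fact.out
        have h5 := (ExpChar.pow_prime_pow_mul_eq_one_iff p m 1 (dt hE ⟨x, hle hx⟩)).1 (by rw [mul_one]; exact h3)
        rwa [pow_one] at h5
      exact sup_le (h2 _ (isRoot_sr cs h i) le_sup_left) (h2 _ (isRoot_sr cs h i).neg le_sup_right)
    intro x hx hx'
    obtain ⟨y, hy, e⟩ := h1 hx
    have h2 : y = ⟨x, hx'⟩ := Subtype.ext e
    rw [← h2]
    exact hy
  exact key g.1 g.2 g.2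

end det

section chi

variable [Finite Y] [Finite W] [Fact p.Prime]
variable {k V : Type*} [Field k] [CharP k p] [AddCommGroup V] [Module k V] [FiniteDimensional k V] [Nontrivial V]
  {ρ : Y →* Module.End k V}

theorem Lv_le_LJ (i : I) : Lv X i ≤ LJ cs h T X {i} := by
  refine sup_le ?_ ?_
  · exact (RGD.le_Sup (S := RootsJ cs h ({i} : Set I)) (sr_mem_Roots i)).trans le_sup_right
  · exact (RGD.le_Sup (S := RootsJ cs h ({i} : Set I)) (RootsJ.neg (sr_mem_Roots i))).trans le_sup_right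

theorem chi_inv (R : RGD cs h p T n X) (hirr : ∀ L : Submodule k V, Ivt ρ (GG cs h T X) L → L = ⊥ ∨ L = ⊤)
    {i : I} (hi : i ∉ Jx cs h X ρ) (hE : Module.finrank k (Le cs h T X ρ {i}) ≤ 2) {c : V}
    (hc : c ∈ D cs h X ρ) (hc0 : c ≠ 0) {χ : Y → k} (hχ : ∀ t ∈ T, ρ t c = χ t • c) {m : Y}
    (hm : Rp cs R.nsys (cs.simple i) m) (hmL : m ∈ Lv X i) {t : Y} (ht : t ∈ T) (htL : t ∈ Lv X i) :
    χ t * χ (m⁻¹ * t * m) = 1 := by
  have hIv : Ivt ρ (Lv X i) (Le cs h T X ρ {i}) := fun g hg v hv => Ivt_Le R {i} g (Lv_le_LJ i hg) v hv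
  have hc1 : c ∈ Le cs h T X ρ {i} := D_le_Le R {i} hc
  have hc2 : ρ m c ∈ Le cs h T X ρ {i} := hIv m hmL c hc1
  obtain ⟨φ, hφ, hφc⟩ := exists_pair_D R hirr hc hc0
  have hφm : φ (ρ m c) = 0 := by
    by_contra hne
    exact hi (simple_mem_WJ h (mem_WJ_of_pair R hirr hφ hm hc hne))
  have hmc0 : ρ m c ≠ 0 := fun h0 => hc0 (by
    have h1 := congrArg (ρ m⁻¹) h0
    rwa [rho_inv_rho, map_zero] at h1)
  let b0 : Fin 2 → Le cs h T X ρ {i} := ![⟨c, hc1⟩, ⟨ρ m c, hc2⟩]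
  have hli : LinearIndependent k b0 := by
    rw [LinearIndependent.pair_iff]
    intro x y hxy
    have h1 : x • c + y • ρ m c = 0 := congrArg Subtype.val hxy
    have h2 := congrArg φ h1
    rw [map_add, map_smul, map_smul, hφm, smul_zero, add_zero, map_zero, smul_eq_mul] at h2
    have h3 : x = 0 := (mul_eq_zero.1 h2).resolve_right hφc
    rw [h3, zero_smul, zero_add] at h1
    exact ⟨h3, (smul_eq_zero.1 h1).resolve_right hmc0⟩
  have hcard : Fintype.card (Fin 2) = Module.finrank k (Le cs h T X ρ {i}) := by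
    have h1 := hli.fintype_card_le_finrank
    rw [Fintype.card_fin] at h1 ⊢
    omega
  have : Nonempty (Fin 2) := ⟨0⟩
  let b := basisOfLinearIndependentOfCardEqFinrank hli hcard
  have hb0 : b 0 = ⟨c, hc1⟩ := by
    change (basisOfLinearIndependentOfCardEqFinrank hli hcard) 0 = _
    rw [coe_basisOfLinearIndependentOfCardEqFinrank]
    rfl
  have hb1 : b 1 = ⟨ρ m c, hc2⟩ := by
    change (basisOfLinearIndependentOfCardEqFinrank hli hcard) 1 = _
    rw [coe_basisOfLinearIndependentOfCardEqFinrank]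
    rfl
  have hmT : m⁻¹ * t * m ∈ T := conj_inv_mem_T R hm ht
  have e0 : (ρ t).restrict (hIv t htL) (b 0) = χ t • b 0 := by
    rw [hb0]
    apply Subtype.ext
    rw [LinearMap.coe_restrict_apply]
    exact hχ t ht
  have e1 : (ρ t).restrict (hIv t htL) (b 1) = χ (m⁻¹ * t * m) • b 1 := by
    rw [hb1]
    apply Subtype.ext
    rw [LinearMap.coe_restrict_apply]
    change ρ t (ρ m c) = χ (m⁻¹ * t * m) • ρ m c
    have h1 : t * m = m * (m⁻¹ * t * m) := by group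
    rw [← rho_mul, h1, rho_mul, hχ _ hmT, map_smul]
  have h1 := det_Lv R hIv ⟨t, htL⟩
  change LinearMap.det ((ρ t).restrict (hIv t htL)) = 1 at h1
  rw [← LinearMap.det_toMatrix b, Matrix.det_fin_two, LinearMap.toMatrix_apply, LinearMap.toMatrix_apply,
    LinearMap.toMatrix_apply, LinearMap.toMatrix_apply, e0, e1] at h1
  simpa using h1

end chi

section main

variable [Finite Y] [Finite W] [Fact p.Prime] {F : Type*} [Field F] [CharP F p] {ι : Type} [Fintype ι]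
  [DecidableEq ι] {P : Subgroup (GL ι F)}

/-- **Self-duality for `J = {i}ᶜ`, `dim V^U = 1`, `dim Le {i} = 2`.** -/
theorem sd_edge (R : RGD cs h p T n X) (hG : G1 cs h X = ⊤)
    {φ : Y →* GL ι F} (hφ : φ.range = P)
    (hP : ActsAbsolutelyIrreducibly (matrixSet P)) [Nonempty ι] {i0 : I}
    (hi0 : i0 ∉ Jx cs h X (lin (acRep φ))) (hJ : ∀ i, i ≠ i0 → i ∈ Jx cs h X (lin (acRep φ)))
    (hD : Module.finrank (AlgebraicClosure F) (D cs h X (lin (acRep φ))) = 1)
    (hE : Module.finrank (AlgebraicClosure F) (Le cs h T X (lin (acRep φ)) {i0}) ≤ 2)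
    {w0 : W} (hw0 : ∀ x, rep cs h w0 x = -x) {m u : Y} (hw : Rp cs R.nsys w0 (m * u))
    (hm : Rp cs R.nsys (cs.simple i0) m) (hmL : m ∈ Lv X i0) (hu : ∀ g ∈ Lv X i0, u * g = g * u) :
    SD P := by
  have hchar : CharP (AlgebraicClosure F) p := charP_of_injective_algebraMap (algebraMap F _).injective p
  have hGG := gg_eq_top (T := T) hG
  have hirr : ∀ L : Submodule (AlgebraicClosure F) (ι → AlgebraicClosure F),
      Ivt (lin (acRep φ)) (GG cs h T X) L → L = ⊥ ∨ L = ⊤ := fun L hL =>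
    acRep_irr hφ (H920.span_eq_top hP) hGG L hL
  set w := m * u with hwdef
  have hDi := D_ivt R hirr
  obtain ⟨c, hc, hc0⟩ : ∃ c ∈ D cs h X (lin (acRep φ)), c ≠ 0 := by
    have h4 : D cs h X (lin (acRep φ)) ≠ ⊥ := (simp_fx R (lin (acRep φ)) hirr).ne
    exact (Submodule.ne_bot_iff _).1 h4
  have hspan : ∀ v ∈ D cs h X (lin (acRep φ)), ∃ a : AlgebraicClosure F, v = a • c := by
    intro v hv
    obtain ⟨a, ha⟩ := (finrank_eq_one_iff_of_nonzero' (⟨c, hc⟩ : D cs h X (lin (acRep φ))) (fun e => hc0 (congrArg Subtype.val e))).1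
      hD ⟨v, hv⟩
    exact ⟨a, (congrArg Subtype.val ha).symm⟩
  have hex : ∀ t : Y, ∃ a : AlgebraicClosure F, t ∈ T → lin (acRep φ) t c = a • c := by
    intro t
    by_cases ht : t ∈ T
    · obtain ⟨a, ha⟩ := hspan _ (hDi t ht c hc)
      exact ⟨a, fun _ => ha⟩
    · exact ⟨0, fun h => absurd h ht⟩
  choose χ hχ' using hex
  have hχ : ∀ t ∈ T, lin (acRep φ) t c = χ t • c := fun t ht => hχ' t ht
  have hmul : ∀ t ∈ T, ∀ t' ∈ T, χ (t * t') = χ t * χ t' := fun t ht t' ht' =>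
    chi_mul R (acRep φ) hirr hc hc0 hχ ht ht'
  have hcj : ∀ t ∈ T, w⁻¹ * t * w ∈ T := fun t ht => conj_inv_mem_T R hw ht
  have h1 : χ 1 = 1 := by
    have h2 := hχ 1 (one_mem T)
    rw [rho_one] at h2
    have h3 : (1 : AlgebraicClosure F) • c = χ 1 • c := by rw [one_smul]; exact h2
    exact (smul_left_injective _ hc0 h3).symm
  let S : Subgroup Y :=
    { carrier := {t | t ∈ T ∧ χ (w⁻¹ * t⁻¹ * w) = χ t}
      one_mem' := ⟨one_mem T, by rw [inv_one, mul_one, inv_mul_cancel]⟩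
      mul_mem' := fun {a b} ha hb => by
        refine ⟨mul_mem ha.1 hb.1, ?_⟩
        have e : w⁻¹ * (a * b)⁻¹ * w = (w⁻¹ * b⁻¹ * w) * (w⁻¹ * a⁻¹ * w) := by group
        rw [e, hmul _ (hcj _ (inv_mem hb.1)) _ (hcj _ (inv_mem ha.1)), ha.2, hb.2, hmul _ ha.1 _ hb.1, mul_comm]
      inv_mem' := fun {a} ha => by
        refine ⟨inv_mem ha.1, ?_⟩
        have e1 : χ (w⁻¹ * a⁻¹⁻¹ * w) * χ (w⁻¹ * a⁻¹ * w) = 1 := by
          rw [← hmul _ (hcj _ (inv_mem (inv_mem ha.1))) _ (hcj _ (inv_mem ha.1))]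
          rw [show w⁻¹ * a⁻¹⁻¹ * w * (w⁻¹ * a⁻¹ * w) = 1 by group, h1]
        have e2 : χ a⁻¹ * χ a = 1 := by
          rw [← hmul _ (inv_mem ha.1) _ ha.1, inv_mul_cancel, h1]
        rw [ha.2] at e1
        have h3 : χ a ≠ 0 := fun h0 => by rw [h0, mul_zero] at e2; exact zero_ne_one e2
        exact mul_right_cancel₀ h3 (e1.trans e2.symm) }
  have hfix : ∀ i ∈ Jx cs h X (lin (acRep φ)), ∀ t ∈ T, t ∈ Lv X i → χ t = 1 := by
    intro i hi t ht htL
    have h2 := hχ t ht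
    rw [fix_of_mem_Lv hi htL hc] at h2
    have h3 : (1 : AlgebraicClosure F) • c = χ t • c := by rw [one_smul]; exact h2
    exact (smul_left_injective _ hc0 h3).symm
  have hTS : T ≤ S := by
    refine (torus_le R hG).trans (iSup_le fun i t ht => ?_)
    obtain ⟨htT, htL⟩ := Subgroup.mem_inf.1 ht
    refine ⟨htT, ?_⟩
    by_cases hi : i = i0
    · subst hi
      have h2 : w⁻¹ * t⁻¹ * w = m⁻¹ * t⁻¹ * m := by
        have h3 : m⁻¹ * t⁻¹ * m ∈ Lv X i := mul_mem (mul_mem (inv_mem hmL) (inv_mem htL)) hmL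
        have h4 := hu _ h3
        rw [hwdef]
        have h5 : (m * u)⁻¹ * t⁻¹ * (m * u) = u⁻¹ * ((m⁻¹ * t⁻¹ * m) * u) := by group
        rw [h5, ← h4, inv_mul_cancel_left]
      rw [h2]
      have h3 := chi_inv R hirr hi0 hE hc hc0 hχ hm hmL (inv_mem htT) (inv_mem htL)
      have h4 : χ t⁻¹ * χ t = 1 := by rw [← hmul _ (inv_mem htT) _ htT, inv_mul_cancel, h1]
      have h5 : χ t⁻¹ ≠ 0 := fun h0 => by rw [h0, zero_mul] at h4; exact zero_ne_one h4
      exact mul_left_cancel₀ h5 (h3.trans h4.symm)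
    · have hiJ := hJ i hi
      rw [hfix i hiJ t htT htL, hfix i hiJ _ (hcj _ (inv_mem htT)) (conj_inv_mem_Lv R hw0 hw (inv_mem htL))]
  intro g hg
  rw [← hφ] at hg
  obtain ⟨y, rfl⟩ := hg
  have h2 := trace_inv R (acRep φ) hirr hc hc0 hχ hw0 hw (RingEquiv.refl _)
    (fun t ht => (hTS ht).2.symm) (g := y) (by rw [hGG]; trivial)
  rw [RingEquiv.refl_apply, trace_acRep, trace_acRep, map_inv] at h2
  exact (algebraMap F (AlgebraicClosure F)).injective h2

end main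

end Cfsg.Agent.H218.SdSpin
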